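import Cfsg.Agent.Lib.CISylow.Basic
import Cfsg.Agent.Lib.Bender.Consumers
import Cfsg.Agent.Lib.Bender.RankOneHalf
import Cfsg.Agent.Lib.SuzukiRankOne.Suzuki.Main

/-!
# Sylow 2-subgroups of a simple group with a strongly embedded subgroup (helper21)

Each Sylow 2-subgroup is regular by conjugation on the others, and the group is of one of the
three families of Bender's theorem.
-/

set_option autoImplicit false

namespace Cfsg.Agent.CISylow

open Cfsg MulAction

universe u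

/-- `P` permutes the other Sylow 2-subgroups regularly. -/
def Regular {X : Type*} [Group X] (P : Sylow 2 X) : Prop :=
  (∀ T T' : Sylow 2 X, T ≠ P → T' ≠ P → ∃ p ∈ (P : Subgroup X), p • T = T') ∧
    ∀ T : Sylow 2 X, T ≠ P → ∀ p ∈ (P : Subgroup X), p • T = T → p = 1

/-- The three families of simple groups of 2-rank at least two with a strongly embedded subgroup. -/
def Families (X : Type*) [Group X] : Prop :=
  (∃ (F : Type) (_ : Field F) (_ : Fintype F) (n : ℕ), 2 ≤ n ∧ Fintype.card F = 2 ^ n ∧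
      Nonempty (X ≃* Matrix.ProjectiveSpecialLinearGroup (Fin 2) F)) ∨
    Cfsg.Lie.IsoSuzuki X ∨
    ∃ (F : Type) (_ : Field F) (_ : Fintype F) (n : ℕ), 2 ≤ n ∧ Fintype.card F = (2 ^ n) ^ 2 ∧
      Nonempty (X ≃* Cfsg.PSU 3 F (2 ^ n))

theorem Regular.smul {X : Type*} [Group X] [Finite X] {P : Sylow 2 X} (h : Regular P) (c : X) :
    Regular (c • P) := by
  have hconj : ∀ p : X, p ∈ (P : Subgroup X) → c * p * c⁻¹ ∈ ((c • P : Sylow 2 X) : Subgroup X) :=
    fun p hp => conj_mem_smul hp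
  have hne : ∀ T : Sylow 2 X, T ≠ c • P → c⁻¹ • T ≠ P := fun T hT e => hT (by rw [← e, smul_inv_smul])
  refine ⟨fun T T' hT hT' => ?_, fun T hT p hp hpT => ?_⟩
  · obtain ⟨p, hp, e⟩ := h.1 _ _ (hne T hT) (hne T' hT')
    exact ⟨c * p * c⁻¹, hconj p hp, by rw [mul_smul, mul_smul, e, smul_inv_smul]⟩
  · have h1 : c⁻¹ * p * c ∈ (P : Subgroup X) := (mem_smul_iff P).1 hp
    have h2 := h.2 _ (hne T hT) _ h1 (by rw [mul_smul, mul_smul, smul_inv_smul, hpT])
    have := congrArg (fun z => c * z * c⁻¹) h2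
    simpa [mul_assoc] using this

theorem regular_families_of_se {X : Type u} [Group X] [Finite X] [IsSimpleGroup X] {H : Subgroup X}
    (hH : IsStronglyEmbedded H) : (∀ P : Sylow 2 X, Regular P) ∧ Families X := by
  haveI : Fact (Nat.Prime 2) := ⟨Nat.prime_two⟩
  have hcore := Bender.normalCore_of_simple hH
  have h2 := SuzukiRankOne.two_involutions_of_simple hH
  obtain ⟨t, Q, h⟩ := Bender.rankOneHalf X H hH hcore h2
  haveI := Bender.faithful_of_normalCore hcore
  obtain ⟨-, ⟨Q0, hQ0⟩, -⟩ := Bender.sylow_normal h h2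
  refine ⟨?_, ?_⟩
  · set a : X ⧸ H := ((1 : X) : X ⧸ H) with ha
    obtain ⟨x0, hx0, hx01⟩ := RankOne.Setup.exists_ne_one h
    have hN : ∀ g : X, g • Q0 = Q0 ↔ g • a = a := by
      intro g
      rw [← mem_normalizer_iff_smul, ← MulAction.mem_stabilizer_iff, hQ0]
      refine ⟨fun hg => ?_, fun hg => Coprime.mem_normalizer_of_forall fun x hx => h.conj_mem g hg x hx⟩
      by_contra hga
      refine hx01 (RankOne.Setup.eq_one_of_fix h hx0 hga ?_)
      have h1 : g⁻¹ * x0 * g ∈ Q := (Subgroup.mem_normalizer_iff''.1 hg x0).1 hx0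
      have h3 : (g⁻¹ * x0 * g) • a = a := h.le h1
      rw [mul_smul, mul_smul, inv_smul_eq_iff] at h3
      exact h3
    have hb : ∀ g : X, g • Q0 ≠ Q0 → g • a ≠ a := fun g hg e => hg ((hN g).2 e)
    have key : ∀ g g' p : X, p • g • a = g' • a ↔ p • g • Q0 = g' • Q0 := by
      intro g g' p
      have := hN (g'⁻¹ * (p * g))
      rw [mul_smul, mul_smul, mul_smul, mul_smul, inv_smul_eq_iff, inv_smul_eq_iff] at this
      exact this.symm
    have h0 : Regular Q0 := by
      refine ⟨fun T T' hT hT' => ?_, fun T hT p hp hpT => ?_⟩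
      · obtain ⟨g, rfl⟩ := MulAction.exists_smul_eq X Q0 T
        obtain ⟨g', rfl⟩ := MulAction.exists_smul_eq X Q0 T'
        obtain ⟨⟨x, hx⟩, he, -⟩ := RankOne.Setup.regular h (hb g hT) (hb g' hT')
        exact ⟨x, hQ0.ge hx, (key g g' x).1 he⟩
      · obtain ⟨g, rfl⟩ := MulAction.exists_smul_eq X Q0 T
        exact RankOne.Setup.eq_one_of_fix h (hQ0.le hp) (hb g hT) ((key g g p).2 hpT)
    intro P
    obtain ⟨c, rfl⟩ := MulAction.exists_smul_eq X Q0 P
    exact h0.smul c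
  · obtain ⟨L, hL, hodd, hc⟩ := SuzukiRankOne.classify SuzukiRankOne.kernelShape
      SuzukiRankOne.Suzuki.suzukiShape h h2
    obtain rfl : L = ⊤ := hL.eq_bot_or_eq_top.resolve_left fun e => by
      rw [e, Subgroup.index_bot] at hodd
      exact Nat.not_even_iff_odd.2 hodd (even_iff_two_dvd.2
        ((Involution.orderOf_of_sq h.mul_self h.ne_one) ▸ orderOf_dvd_natCard t))
    rcases hc with ⟨F, _, _, ⟨n, hn, hF⟩, ⟨e⟩⟩ | ⟨F, _, _, m, hm, hF, ⟨e⟩⟩ | ⟨F, _, _, n, hn, hF, ⟨e⟩⟩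
    · exact Or.inl ⟨F, _, _, n, hn, hF, ⟨Subgroup.topEquiv.symm.trans e⟩⟩
    · exact Or.inr (Or.inl ⟨F, _, _, m, hm, hF, ⟨Subgroup.topEquiv.symm.trans e⟩⟩)
    · exact Or.inr (Or.inr ⟨F, _, _, n, hn, hF, ⟨Subgroup.topEquiv.symm.trans e⟩⟩)

end Cfsg.Agent.CISylow
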