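import Cfsg.Agent.S0494
import Cfsg.Agent.S2086
import Cfsg.Agent.Lib.CISylow.Regular
import Cfsg.Agent.Lib.Components.Quasisimple
import Cfsg.Agent.Lib.Goldschmidt.Facts.Suzuki
import Cfsg.Agent.Lib.Goldschmidt.Facts.Unitary
import Cfsg.Agent.Lib.QuatMeet.Cover
import Cfsg.Agent.Lib.PSL2.Overgroups
import Cfsg.Agent.Lib.PSL2.Soluble

/-!
# Perfect central extensions of the three families with a nonabelian Sylow 2-subgroup (helper21)
-/

set_option autoImplicit false

namespace Cfsg.Agent.CISylow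

open Cfsg

universe u

/-- A perfect central extension, mapped onto a group through the quotient by the centre. -/
theorem isStemExtension_of_center {Γ : Type u} [Group Γ] [Group.IsPerfect Γ] {K : Type*} [Group K]
    (e : Γ ⧸ Subgroup.center Γ ≃* K) :
    IsStemExtension (e.toMonoidHom.comp (QuotientGroup.mk' (Subgroup.center Γ))) ∧
      (e.toMonoidHom.comp (QuotientGroup.mk' (Subgroup.center Γ))).ker = Subgroup.center Γ := by
  have hk : (e.toMonoidHom.comp (QuotientGroup.mk' (Subgroup.center Γ))).ker = Subgroup.center Γ := by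
    ext x
    rw [MonoidHom.mem_ker, MonoidHom.comp_apply, MulEquiv.coe_toMonoidHom,
      MulEquiv.map_eq_one_iff, QuotientGroup.mk'_apply, QuotientGroup.eq_one_iff]
  refine ⟨⟨e.surjective.comp (QuotientGroup.mk'_surjective _), hk.le, ?_⟩, hk⟩
  rw [(Group.isPerfect_def (G := Γ)).1 inferInstance]
  exact le_top

/-- The kernel of a stem extension divides the order of a cyclic multiplier, in any universe. -/
theorem stem_kernel_dvd {K : Type} [Group K] {n : ℕ} [NeZero n] (h : HasCyclicSchurMultiplier K n)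
    {Γ : Type u} [Group Γ] [Finite Γ] {σ : Γ →* K} (hσ : IsStemExtension σ) :
    Nat.card σ.ker ∣ n := by
  let e : Shrink.{0} Γ ≃* Γ := Shrink.mulEquiv
  haveI : Finite (Shrink.{0} Γ) := Finite.of_equiv Γ e.symm.toEquiv
  let σ' := σ.comp e.toMonoidHom
  have hker : σ'.ker = σ.ker.comap e.toMonoidHom := rfl
  have hs : IsStemExtension σ' := by
    refine ⟨hσ.1.comp e.surjective, fun x hx => Subgroup.mem_center_iff.2 fun y => e.injective ?_,
      fun x hx => ?_⟩
    · rw [map_mul, map_mul]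
      exact Subgroup.mem_center_iff.1 (hσ.2.1 hx) _
    · have h1 : e.toMonoidHom x ∈ (commutator (Shrink.{0} Γ)).map e.toMonoidHom := by
        rw [commutator_def, Subgroup.map_commutator, Subgroup.map_top_of_surjective _ e.surjective]
        exact hσ.2.2 hx
      obtain ⟨y, hy, he⟩ := h1
      exact e.injective he ▸ hy
  obtain ⟨π, hπ⟩ := h.2 (Shrink.{0} Γ) σ' hs
  have hcard : Nat.card σ'.ker = Nat.card σ.ker := by
    rw [hker]
    exact Nat.card_congr (e.toEquiv.subtypeEquiv fun x => Iff.rfl)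
  have h2 := Subgroup.card_dvd_of_surjective π hπ
  rwa [hcard, Nat.card_congr Multiplicative.toAdd, Nat.card_zmod] at h2

theorem card_sylow_psl_two {X : Type*} [Group X] [Finite X] {F : Type} [Field F] [Fintype F] {n : ℕ}
    (hn : 1 ≤ n) (hF : Fintype.card F = 2 ^ n)
    (e : X ≃* Matrix.ProjectiveSpecialLinearGroup (Fin 2) F) (P : Sylow 2 X) :
    Nat.card (P : Subgroup X) = 2 ^ n := by
  haveI : Fact (Nat.Prime 2) := ⟨Nat.prime_two⟩
  have hq : Nat.card F = 2 ^ n := by rw [Nat.card_eq_fintype_card, hF]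
  have h := PSL2.card_psl_mul (F := F)
  obtain ⟨m, hm⟩ : ∃ m, 2 ^ n = 2 * m := dvd_pow_self 2 (by omega)
  have hm0 : 0 < m := by rcases Nat.eq_zero_or_pos m with h0 | h0 <;> simp_all
  have hg : Nat.gcd 2 (Nat.card F - 1) = 1 := by
    rw [hq, hm]
    exact Nat.prime_two.coprime_iff_not_dvd.2 (by omega)
  rw [hg, one_mul] at h
  have hodd : ¬ 2 ∣ (Nat.card F + 1) * (Nat.card F - 1) := by
    rw [Nat.Prime.dvd_mul Nat.prime_two, hq, hm]
    omega
  rw [P.card_eq_multiplicity, Nat.card_congr e.toEquiv, h, hq,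
    Nat.factorization_mul (by positivity) (fun h0 => hodd (by rw [hq, h0]; exact dvd_zero 2))]
  rw [hq] at hodd
  simp [Nat.factorization_eq_zero_of_not_dvd hodd, Nat.Prime.factorization_pow Nat.prime_two]

/-- With an abelian Sylow 2-subgroup only the linear family remains. -/
theorem psl_of_abelian {X : Type u} [Group X] [Finite X] (hfam : Families X) (P : Sylow 2 X)
    (hP : IsMulCommutative (P : Subgroup X)) :
    ∃ (F : Type) (_ : Field F) (_ : Fintype F) (n : ℕ), 2 ≤ n ∧ Fintype.card F = 2 ^ n ∧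
      Nonempty (X ≃* Matrix.ProjectiveSpecialLinearGroup (Fin 2) F) := by
  have key : ∀ q, Goldschmidt.Facts.GroupFacts X q → False := by
    intro q h
    have hs := h.sylow P
    haveI := hP
    have h1 : Subgroup.center (P : Subgroup X) = ⊤ :=
      eq_top_iff.2 fun x _ => Subgroup.mem_center_iff.2 fun y => mul_comm' y x
    have h2 := hs.card_center
    rw [h1, Subgroup.card_top] at h2
    obtain ⟨n, hn, rfl⟩ := hs.pow
    have h4 : 4 ≤ 2 ^ n := le_trans (by norm_num) (Nat.pow_le_pow_right (by norm_num : 1 ≤ 2) hn)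
    rcases hs.card with h3 | h3 <;> rw [h2] at h3 <;> nlinarith [Nat.mul_le_mul h4 h4]
  rcases hfam with h | h | ⟨F, _, _, n, hn, hF, ⟨e⟩⟩
  · exact h
  · obtain ⟨q, hq⟩ := Goldschmidt.Facts.groupFacts_of_isoSuzuki h
    exact (key q hq).elim
  · exact (key _ (Goldschmidt.Facts.groupFacts_of_psu hn hF e)).elim

/-- An abelian Sylow 2-subgroup of the central quotient and a nontrivial central 2-subgroup. -/
theorem psl_four_of_abelian {Γ : Type u} [Group Γ] [Finite Γ] [Group.IsPerfect Γ]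
    (hfam : Families (Γ ⧸ Subgroup.center Γ)) (P : Sylow 2 (Γ ⧸ Subgroup.center Γ))
    (hP : IsMulCommutative (P : Subgroup (Γ ⧸ Subgroup.center Γ))) (hne : Subgroup.center Γ ≠ ⊥) :
    Nat.card (P : Subgroup (Γ ⧸ Subgroup.center Γ)) = 4 ∧
      ∃ (F : Type) (_ : Field F) (_ : Fintype F), Fintype.card F = 4 ∧
        Nonempty (Γ ⧸ Subgroup.center Γ ≃* Matrix.ProjectiveSpecialLinearGroup (Fin 2) F) := by
  obtain ⟨F, _, _, n, hn, hF, ⟨e⟩⟩ := psl_of_abelian hfam P hP
  obtain ⟨hst, hk⟩ := isStemExtension_of_center e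
  have hn2 : n = 2 := by
    by_contra h
    have h8 : 8 ≤ 2 ^ n := le_trans (by norm_num)
      (Nat.pow_le_pow_right (by norm_num : 1 ≤ 2) (show 3 ≤ n by omega))
    have hmul := S2086.result (F := F) hF 2 le_rfl (fun _ => by omega) (by
      simp only [Set.mem_insert_iff, Set.mem_singleton_iff, Prod.mk.injEq, not_or]
      refine ⟨?_, ?_, ?_, ?_, ?_⟩ <;> intro hh <;> first | omega | skip
      -- `(2, 9)`
      have : 2 ∣ 2 ^ n := dvd_pow_self 2 (by omega)
      omega)
    obtain ⟨m, hm⟩ : ∃ m, 2 ^ n = 2 * m := dvd_pow_self 2 (by omega)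
    have hg : Nat.gcd 2 (2 ^ n - 1) = 1 :=
      Nat.prime_two.coprime_iff_not_dvd.2 (by omega)
    rw [hg] at hmul
    exact hne (Subgroup.card_eq_one.1 (Nat.dvd_one.1 (hk ▸ stem_kernel_dvd hmul hst)))
  subst hn2
  exact ⟨card_sylow_psl_two (by norm_num) hF e P, F, _, _, by rw [hF]; norm_num, ⟨e⟩⟩

theorem psl_four_equiv_five {F : Type} [Field F] [Fintype F] (hF : Fintype.card F = 4) :
    Nonempty (Matrix.ProjectiveSpecialLinearGroup (Fin 2) F ≃*
      Matrix.ProjectiveSpecialLinearGroup (Fin 2) (ZMod 5)) := by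
  haveI : Fact (Nat.Prime 5) := ⟨Nat.prime_five⟩
  have h4 : Nat.card F = 4 := by rw [Nat.card_eq_fintype_card, hF]
  have h5 : Nat.card (ZMod 5) = 5 := Nat.card_zmod 5
  have hA : Nat.card (PSL2.PSL2 F) = 60 := by
    have h := PSL2.card_psl_mul (F := F)
    rw [h4] at h; norm_num at h; exact h
  have hB : Nat.card (PSL2.PSL2 (ZMod 5)) = 60 := by
    have h := PSL2.card_psl_mul (F := ZMod 5)
    rw [h5, show Nat.gcd 2 (5 - 1) = 2 from rfl] at h; omega
  haveI := PSL2.isSimpleGroup_psl (L := F) (by omega)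
  haveI := PSL2.isSimpleGroup_psl (L := ZMod 5) (by omega)
  obtain ⟨a⟩ := S0494.result hA
  obtain ⟨b⟩ := S0494.result hB
  exact ⟨a.trans b.symm⟩

/-- The proper cover of `PSL(2, 4)` is `SL(2, 5)`. -/
theorem sl_five_of_psl_four {Γ : Type u} [Group Γ] [Finite Γ] [Group.IsPerfect Γ]
    (hne : Subgroup.center Γ ≠ ⊥) {F : Type} [Field F] [Fintype F] (hF : Fintype.card F = 4)
    (e : Γ ⧸ Subgroup.center Γ ≃* Matrix.ProjectiveSpecialLinearGroup (Fin 2) F) :
    Nonempty (Γ ≃* Matrix.SpecialLinearGroup (Fin 2) (ZMod 5)) := by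
  haveI : Fact (Nat.Prime 5) := ⟨Nat.prime_five⟩
  obtain ⟨f⟩ := psl_four_equiv_five hF
  obtain ⟨hst, hk⟩ := isStemExtension_of_center (e.trans f)
  have hmul := S2086.result (F := ZMod 5) (q := 5) (ZMod.card 5) 2 le_rfl (fun _ => by norm_num)
    (by simp)
  rw [show Nat.gcd 2 (5 - 1) = 2 from rfl] at hmul
  have h2 : Nat.card (Subgroup.center Γ) ∣ 2 := hk ▸ stem_kernel_dvd hmul hst
  have hc : Nat.card (Subgroup.center Γ) = 2 :=
    ((Nat.dvd_prime Nat.prime_two).1 h2).resolve_left fun h => hne (Subgroup.card_eq_one.1 h)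
  refine QuatMeet.cover_equiv_sl (by simp [ZMod.card]) (by rw [ZMod.card]; decide)
    (by rw [ZMod.card]; norm_num) _ hst.1 hst.2.1 ?_ hst.2.2
  rw [hk, hc]

end Cfsg.Agent.CISylow
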