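import Cfsg.Agent.S2089
import Cfsg.Agent.S2111
import Cfsg.Agent.Lib.CISylow.Ident
import Cfsg.Agent.Lib.TwistMult.Kernel
import Cfsg.Agent.Lib.SLMult.Psl
import Cfsg.Agent.Lib.SUMult.Main
import Cfsg.Agent.Lib.Unitary.Center
import Cfsg.Agent.Lib.Unitary.Commutator

/-!
# Perfect central extensions of `Sz(q)` and `PSU(3, q)`, `q` even (helper21)
-/

set_option autoImplicit false

namespace Cfsg.Agent.CISylow

open Cfsg

universe u

/-- Perfect central extensions of the Suzuki groups and of `PSU(3, q)`. -/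
theorem cover_cases {Γ : Type u} [Group Γ] [Finite Γ] [Group.IsPerfect Γ]
    (h : Cfsg.Lie.IsoSuzuki (Γ ⧸ Subgroup.center Γ) ∨
      ∃ (F : Type) (_ : Field F) (_ : Fintype F) (n : ℕ), 2 ≤ n ∧ Fintype.card F = (2 ^ n) ^ 2 ∧
        Nonempty (Γ ⧸ Subgroup.center Γ ≃* Cfsg.PSU 3 F (2 ^ n))) :
    (Odd (Nat.card (Subgroup.center Γ)) ∧
      ((∃ (m : ℕ) (F : Type) (_ : Field F) (_ : Fintype F), 1 ≤ m ∧ Fintype.card F = 2 ^ (2 * m + 1) ∧
          Nonempty (Γ ≃* ↥(Cfsg.Lie.Sz F (2 ^ (m + 1))))) ∨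
        ∃ (n : ℕ) (F : Type) (_ : Field F) (_ : Fintype F), 2 ≤ n ∧ Fintype.card F = 4 ^ n ∧
          (Nonempty (Γ ≃* Cfsg.PSU 3 F (2 ^ n)) ∨ Nonempty (Γ ≃* ↥(Cfsg.SU 3 F (2 ^ n)))))) ∨
    (Subgroup.center Γ ≠ ⊥ ∧ ∃ (F : Type) (_ : Field F) (_ : Fintype F), Fintype.card F = 8 ∧
      Nonempty (Γ ⧸ Subgroup.center Γ ≃* ↥(Cfsg.Lie.Sz F 4))) := by
  have htriv : Subgroup.center Γ = ⊥ → Nonempty (Γ ≃* Γ ⧸ Subgroup.center Γ) := fun hb =>
    ⟨(QuotientGroup.quotientBot.symm.trans (QuotientGroup.quotientMulEquivOfEq hb.symm))⟩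
  rcases h with ⟨F, _, _, m, hm, hF, ⟨e⟩⟩ | ⟨F, _, _, n, hn, hF, ⟨e⟩⟩
  · obtain ⟨hst, hk⟩ := isStemExtension_of_center e
    by_cases hb : Subgroup.center Γ = ⊥
    · obtain ⟨i⟩ := htriv hb
      exact Or.inl ⟨by rw [hb, Subgroup.card_bot]; exact odd_one,
        Or.inl ⟨m, F, _, _, hm, hF, ⟨i.trans e⟩⟩⟩
    · have hm1 : m = 1 := by
        by_contra hne
        have hmul := S2111.result (F := F) (m := m) (by omega) hF
        exact hb (Subgroup.card_eq_one.1 (Nat.dvd_one.1 (hk ▸ stem_kernel_dvd hmul hst)))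
      subst hm1
      exact Or.inr ⟨hb, F, _, _, by rw [hF]; norm_num, ⟨e⟩⟩
  · obtain ⟨hst, hk⟩ := isStemExtension_of_center e
    have hq4 : 4 ≤ 2 ^ n := le_trans (by norm_num) (Nat.pow_le_pow_right (by norm_num : 1 ≤ 2) hn)
    have hexc : (3, 2 ^ n) ∉ ({(4, 2), (4, 3), (6, 2)} : Set (ℕ × ℕ)) := by simp
    have hmul := S2089.result (F := F) 3 (2 ^ n) hF le_rfl (by omega) hexc
    haveI : NeZero (Nat.gcd 3 (2 ^ n + 1)) := ⟨(Nat.gcd_pos_of_pos_left _ (by norm_num)).ne'⟩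
    have hdvd : Nat.card (Subgroup.center Γ) ∣ Nat.gcd 3 (2 ^ n + 1) :=
      hk ▸ stem_kernel_dvd hmul hst
    have h3 : Nat.card (Subgroup.center Γ) ∣ 3 := hdvd.trans (Nat.gcd_dvd_left _ _)
    have hodd : Odd (Nat.card (Subgroup.center Γ)) := Odd.of_dvd_nat (by decide) h3
    have hF4 : Fintype.card F = 4 ^ n := by
      rw [hF, ← pow_mul, mul_comm, pow_mul]; norm_num
    refine Or.inl ⟨hodd, Or.inr ⟨n, F, ‹Field F›, ‹Fintype F›, hn, hF4, ?_⟩⟩
    rcases (Nat.dvd_prime Nat.prime_three).1 h3 with h1 | h1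
    · obtain ⟨i⟩ := htriv (Subgroup.card_eq_one.1 h1)
      exact Or.inl ⟨i.trans e⟩
    right
    have hg : Nat.gcd 3 (2 ^ n + 1) = 3 := Nat.dvd_antisymm (Nat.gcd_dvd_left _ _) (h1 ▸ hdvd)
    -- move to universe zero
    let s : Shrink.{0} Γ ≃* Γ := Shrink.mulEquiv
    haveI : Finite (Shrink.{0} Γ) := Finite.of_equiv Γ s.symm.toEquiv
    set σ := (e.toMonoidHom.comp (QuotientGroup.mk' (Subgroup.center Γ))).comp s.toMonoidHom
    have hσc : σ.ker ≤ Subgroup.center (Shrink.{0} Γ) := fun x hx => by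
      have hx' : s x ∈ Subgroup.center Γ := hk.le hx
      exact Subgroup.mem_center_iff.2 fun y => s.injective (by
        rw [map_mul, map_mul]; exact Subgroup.mem_center_iff.1 hx' _)
    have hσd : σ.ker ≤ commutator (Shrink.{0} Γ) := by
      intro x _
      have h1 : s x ∈ (commutator (Shrink.{0} Γ)).map s.toMonoidHom := by
        rw [commutator_def, Subgroup.map_commutator, Subgroup.map_top_of_surjective _ s.surjective,
          ← commutator_def, (Group.isPerfect_def (G := Γ)).1 inferInstance]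
        trivial
      obtain ⟨y, hy, he⟩ := h1
      exact s.injective he ▸ hy
    have hσs : Function.Surjective σ := hst.1.comp s.surjective
    have hperf : commutator (Cfsg.SU 3 F (2 ^ n)) = ⊤ :=
      Unitary.commutator_SU_eq_top hF (Or.inr ⟨rfl, by omega⟩)
    obtain ⟨ψ, hψ⟩ := TwistMult.exists_section (σ := σ) hperf
      (SUMult.hasCyclic_SU hF le_rfl (by omega) ⟨by omega, by omega, by omega⟩) hσc
      (QuotientGroup.mk' (Subgroup.center (Cfsg.SU 3 F (2 ^ n)))) (fun g => hσs _)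
    have hsur : Function.Surjective ψ := SLMult.surjective_of_comp hperf hσc hσd
      (by rw [hψ]; exact QuotientGroup.mk'_surjective _)
    have hcard : Nat.card (Cfsg.SU 3 F (2 ^ n)) = Nat.card (Shrink.{0} Γ) := by
      rw [Nat.card_congr s.toEquiv, Subgroup.card_eq_card_quotient_mul_card_subgroup (Subgroup.center Γ),
        Subgroup.card_eq_card_quotient_mul_card_subgroup (Subgroup.center (Cfsg.SU 3 F (2 ^ n))), h1,
        Unitary.card_center_SU hF (by norm_num), hg, Nat.card_congr e.toEquiv]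
    exact ⟨((MulEquiv.ofBijective ψ ((Nat.bijective_iff_surjective_and_card ψ).2 ⟨hsur, hcard⟩)).trans s).symm⟩

end Cfsg.Agent.CISylow
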