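import Cfsg.Agent.Lib.CISylow.Basic

/-!
# Central Sylow 2-intersections: odd subgroups centralising enough (helper21)

* `mem_core_of_central` : a central Sylow 2-subgroup gives a normal 2-complement;
* `le_core_of_centralizes` : odd subgroups centralising a normal subgroup that contains a
  Sylow 2-subgroup lie in the odd core.
-/

set_option autoImplicit false

namespace Cfsg.Agent.CISylow

variable {G : Type*} [Group G]

theorem eq_one_of_odd_of_two {x : G} {m : ℕ} (hm : m.Coprime 2) (h1 : x ^ m = 1)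
    (h2 : ∃ n, orderOf x = 2 ^ n) : x = 1 := by
  obtain ⟨n, hn⟩ := h2
  rw [← orderOf_eq_one_iff]
  exact Nat.eq_one_of_dvd_coprimes ((hm.pow_right n).symm) (hn ▸ dvd_refl _)
    (orderOf_dvd_of_pow_eq_one h1)

theorem mem_core_of_central [Finite G] (Q : Sylow 2 G)
    (hQ : ∀ q ∈ (Q : Subgroup G), ∀ g : G, g * q = q * g) {x : G} {m : ℕ} (hm : m.Coprime 2)
    (hx : x ^ m = 1) : x ∈ Cfsg.pPrimeCore 2 G := by
  haveI : Fact (Nat.Prime 2) := ⟨Nat.prime_two⟩
  haveI hn : (Q : Subgroup G).Normal := ⟨fun q hq g => by rwa [hQ q hq g, mul_inv_cancel_right]⟩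
  obtain ⟨n, hn2⟩ := IsPGroup.iff_card.1 Q.isPGroup'
  have hidx : (Q : Subgroup G).index.Coprime 2 :=
    (Nat.prime_two.coprime_iff_not_dvd.2 Q.not_dvd_index).symm
  obtain ⟨K, hK⟩ := Subgroup.exists_right_complement'_of_coprime (N := (Q : Subgroup G))
    (by rw [hn2]; exact (hidx.symm.pow_left n))
  have hcard : (Nat.card K).Coprime 2 := by rwa [← hK.symm.index_eq_card]
  have hKn : K.Normal := by
    refine ⟨fun k hk g => ?_⟩
    obtain ⟨⟨q, l⟩, rfl⟩ := hK.2 g
    show (q : G) * (l : G) * k * ((q : G) * (l : G))⁻¹ ∈ K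
    rw [show (q : G) * (l : G) * k * ((q : G) * (l : G))⁻¹ =
      (q : G) * ((l : G) * k * (l : G)⁻¹) * (q : G)⁻¹ by group, ← hQ q q.2, mul_inv_cancel_right]
    exact K.mul_mem (K.mul_mem l.2 hk) (K.inv_mem l.2)
  obtain ⟨⟨q, l⟩, rfl⟩ := hK.2 x
  refine Cores.le_pPrimeCore hKn hcard ?_
  have hc : Commute (q : G) (l : G) := (hQ q q.2 l).symm
  have h1 : (q : G) ^ m = ((l : G) ^ m)⁻¹ := eq_inv_of_mul_eq_one_left (by rw [← hc.mul_pow, hx])
  have h2 : (q : G) ^ m ∈ (Q : Subgroup G) ⊓ K :=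
    ⟨pow_mem q.2 m, by rw [h1]; exact K.inv_mem (pow_mem l.2 m)⟩
  rw [hK.disjoint.eq_bot, Subgroup.mem_bot] at h2
  show (q : G) * (l : G) ∈ K
  rw [eq_one_of_odd_of_two hm h2 (two_pow_of_mem_sylow q.2), one_mul]
  exact l.2

theorem le_core_of_centralizes [Finite G] (M : Subgroup G) [M.Normal] (Q : Sylow 2 G)
    (hQM : (Q : Subgroup G) ≤ M) {D : Subgroup G} (hD : (Nat.card D).Coprime 2)
    (hcomm : D ≤ Subgroup.centralizer (M : Set G)) : D ≤ Cfsg.pPrimeCore 2 G := by
  set C := Subgroup.centralizer (M : Set G)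
  obtain ⟨R, hR⟩ := exists_sylow_inf C Q
  have hc : ∀ q ∈ (R : Subgroup C), ∀ g : C, g * q = q * g := by
    intro q hq g
    rw [hR] at hq
    exact Subtype.ext (g.2 q (hQM (Subgroup.mem_subgroupOf.1 hq))).symm
  intro x hx
  have h1 : (⟨x, hcomm hx⟩ : C) ∈ Cfsg.pPrimeCore 2 ↥C := by
    refine mem_core_of_central R hc hD (Subtype.ext ?_)
    have h := congrArg Subtype.val (pow_card_eq_one' (G := D) (x := ⟨x, hx⟩))
    rw [SubmonoidClass.coe_pow, OneMemClass.coe_one] at h ⊢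
    exact h
  have h2 := Subgroup.mem_map_of_mem C.subtype h1
  rw [Cores.pPrimeCore_map_subtype] at h2
  exact h2.1

/-- Odd elements of the centralizer of a Sylow 2-subgroup lie in the core of every subgroup
between it and the normalizer. -/
theorem le_core_of_le_normalizer [Finite G] (P : Sylow 2 G) {C : Subgroup G}
    (hPC : (P : Subgroup G) ≤ C) (hCN : C ≤ Subgroup.normalizer ((P : Subgroup G) : Set G))
    {D : Subgroup G} (hDC : D ≤ C) (hD : (Nat.card D).Coprime 2)
    (hcomm : D ≤ Subgroup.centralizer ((P : Subgroup G) : Set G)) :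
    D ≤ (Cfsg.pPrimeCore 2 ↥C).map C.subtype := by
  haveI : ((P : Subgroup G).subgroupOf C).Normal :=
    Subgroup.normal_subgroupOf_of_le_normalizer hCN
  have h := le_core_of_centralizes ((P : Subgroup G).subgroupOf C) (P.subtype hPC) le_rfl
    (D := D.subgroupOf C) (by rwa [Cores.card_subgroupOf hDC])
    (fun x hx y hy => Subtype.ext (hcomm (Subgroup.mem_subgroupOf.1 hx) y hy))
  intro x hx
  exact ⟨⟨x, hDC hx⟩, h hx, rfl⟩

end Cfsg.Agent.CISylow
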