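import Cfsg.Agent.Lib.CISylow.Basic
import Cfsg.Agent.Lib.CISylow.Local
import Cfsg.Agent.Lib.Coprime.Generation
import Cfsg.Agent.Lib.PGroup.UniqueOrderP

/-!
# A Sylow 2-subgroup centralising the odd core (helper21)

`commute_core` : in a CI-group, if the Sylow 2-subgroup `S` is not generated by two elements modulo
its centre then `S` centralises every odd normal subgroup.
-/

set_option autoImplicit false

namespace Cfsg.Agent.CISylow

open Cfsg

universe u

variable {G : Type u} [Group G]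

/-- A 2-group with a unique involution is generated by two elements. -/
theorem exists_pair_of_unique {Q : Type u} [Group Q] [Finite Q] (hQ : IsPGroup 2 Q)
    (huniq : ∀ x y : Q, orderOf x = 2 → y ^ 2 = 1 → y ∈ Subgroup.zpowers x) :
    ∃ a b : Q, Subgroup.closure ({a, b} : Set Q) = ⊤ := by
  haveI : Fact (Nat.Prime 2) := ⟨Nat.prime_two⟩
  rcases PGroup.unique_order_p_cases hQ huniq with hc | ⟨-, n, ⟨e⟩⟩
  · obtain ⟨g, hg⟩ := hc.exists_generator
    refine ⟨g, g, eq_top_iff.2 fun x _ => ?_⟩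
    rw [Set.pair_eq_singleton, ← Subgroup.zpowers_eq_closure]
    exact hg x
  · refine ⟨e.symm (QuaternionGroup.a 1), e.symm (QuaternionGroup.xa 0), eq_top_iff.2 fun x _ => ?_⟩
    set K := Subgroup.closure ({e.symm (QuaternionGroup.a 1), e.symm (QuaternionGroup.xa 0)} : Set Q)
    haveI : NeZero (2 ^ n) := ⟨by positivity⟩
    have ha : ∀ i, e.symm (QuaternionGroup.a i) ∈ K := by
      intro i
      rw [← ZMod.natCast_zmod_val i, ← QuaternionGroup.a_one_pow, map_pow]
      exact pow_mem (Subgroup.subset_closure (Set.mem_insert _ _)) _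
    obtain ⟨y, rfl⟩ := e.symm.surjective x
    cases y with
    | a i => exact ha i
    | xa i =>
      rw [show (QuaternionGroup.xa i : QuaternionGroup (2 ^ n)) =
        QuaternionGroup.xa 0 * QuaternionGroup.a i by simp, map_mul]
      exact mul_mem (Subgroup.subset_closure (Set.mem_insert_of_mem _ rfl)) (ha i)

/-- Generation of an odd subgroup modulo a central subgroup of `S`. -/
theorem le_of_pair_mod [Finite G] (S : Sylow 2 G) {U H W : Subgroup G}
    (hHS : H ≤ ctr (S : Subgroup G)) (hU : (Nat.card U).Coprime 2)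
    (hUH : U ≤ Subgroup.centralizer (H : Set G))
    (hSU : (S : Subgroup G) ≤ Subgroup.normalizer (U : Set G))
    (hW : ∀ a ∈ (S : Subgroup G), a ∉ H → U ⊓ Subgroup.centralizer {a} ≤ W)
    {x y : G} (hx : x ∈ (S : Subgroup G)) (hy : y ∈ (S : Subgroup G)) (hxH : x ∉ H) (hyH : y ∉ H)
    (hxx : x * x ∈ H) (hyy : y * y ∈ H) (hxy : x * y⁻¹ ∉ H) (hc : x * y * x⁻¹ * y⁻¹ ∈ H) :
    U ≤ W := by
  haveI : Fact (Nat.Prime 2) := ⟨Nat.prime_two⟩
  set M := U ⊔ (S : Subgroup G)
  have hUM : U ≤ M := le_sup_left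
  have hSM : (S : Subgroup G) ≤ M := le_sup_right
  have hHM : H ≤ M := hHS.trans ((ctr_le _).trans hSM)
  haveI : (H.subgroupOf M).Normal := Subgroup.normal_subgroupOf_of_le_normalizer (sup_le
    (le_trans (fun u hu => Subgroup.mem_centralizer_iff.2 fun h hh => hUH hu h hh)
      (Subgroup.centralizer_le_normalizer _))
    (fun s hs => Coprime.mem_normalizer_of_forall fun h hh => by
      rwa [(hHS hh).2 s hs, mul_inv_cancel_right]))
  set π := QuotientGroup.mk' (H.subgroupOf M) with hπ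
  have hπ1 : ∀ z : ↥M, π z = 1 ↔ (z : G) ∈ H := fun z => by
    rw [hπ, QuotientGroup.mk'_apply, QuotientGroup.eq_one_iff, Subgroup.mem_subgroupOf]
  set X := π ⟨x, hSM hx⟩
  set Y := π ⟨y, hSM hy⟩
  set A := Subgroup.closure ({X, Y} : Set (↥M ⧸ H.subgroupOf M))
  have hXY : X * Y = Y * X := by
    rw [← mul_inv_eq_one, ← map_mul, ← map_mul, ← map_inv, ← map_mul, hπ1]
    simpa [mul_assoc] using hc
  haveI : IsMulCommutative A := Subgroup.isMulCommutative_closure (by
    rintro a (rfl | rfl) b (rfl | rfl)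
    · rfl
    · exact hXY
    · exact hXY.symm
    · rfl)
  have hAS : A ≤ ((S : Subgroup G).subgroupOf M).map π := (Subgroup.closure_le _).2 (by
    rintro z (rfl | rfl)
    · exact Subgroup.mem_map_of_mem π (x := ⟨x, hSM hx⟩) hx
    · exact Subgroup.mem_map_of_mem π (x := ⟨y, hSM hy⟩) hy)
  have hAcyc : ¬ IsCyclic A := by
    intro hcyc
    have hX1 : X ≠ 1 := fun e => hxH ((hπ1 _).1 e)
    have hY1 : Y ≠ 1 := fun e => hyH ((hπ1 _).1 e)
    have hX2 : orderOf X = 2 := orderOf_eq_prime (by rw [pow_two, ← map_mul, hπ1]; exact hxx) hX1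
    have hY2 : orderOf Y = 2 := orderOf_eq_prime (by rw [pow_two, ← map_mul, hπ1]; exact hyy) hY1
    have hXA : X ∈ A := Subgroup.subset_closure (Set.mem_insert _ _)
    have hYA : Y ∈ A := Subgroup.subset_closure (Set.mem_insert_of_mem _ rfl)
    haveI := hcyc
    classical
    haveI := Fintype.ofFinite A
    have hcard := IsCyclic.card_orderOf_eq_totient (α := A) (d := 2) (by
      rw [← Nat.card_eq_fintype_card, ← hX2, ← Subgroup.orderOf_mk X hXA]
      exact orderOf_dvd_natCard _)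
    rw [Nat.totient_two, Finset.card_eq_one] at hcard
    obtain ⟨z, hz⟩ := hcard
    have hzX : (⟨X, hXA⟩ : A) = z := Finset.mem_singleton.1 (hz ▸ by simp [Subgroup.orderOf_mk, hX2])
    have hzY : (⟨Y, hYA⟩ : A) = z := Finset.mem_singleton.1 (hz ▸ by simp [Subgroup.orderOf_mk, hY2])
    refine hxy ?_
    have e : X = Y := congrArg Subtype.val (hzX.trans hzY.symm)
    rw [← mul_inv_eq_one, ← map_inv, ← map_mul, hπ1] at e
    exact e
  set K := (U.subgroupOf M).map π
  have hKc : (Nat.card K).Coprime 2 :=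
    hU.coprime_dvd_left ((Subgroup.card_map_dvd _ _).trans (by rw [Cores.card_subgroupOf hUM]))
  have hA2 : IsPGroup 2 A := ((S.isPGroup'.comap_subtype (K := M)).map π).to_le hAS
  have hAK : A ≤ Subgroup.normalizer (K : Set (↥M ⧸ H.subgroupOf M)) := hAS.trans (by
    rintro _ ⟨s, hs, rfl⟩
    refine Coprime.mem_normalizer_of_forall ?_
    rintro _ ⟨u, hu, rfl⟩
    exact ⟨s * u * s⁻¹, (Subgroup.mem_normalizer_iff.1 (hSU hs) _).1 hu, by simp [map_mul]⟩)
  have hle := Coprime.le_of_noncyclic (K := K) (W := ((U ⊓ W).subgroupOf M).map π) hAcyc hAK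
    (by obtain ⟨n, hn⟩ := IsPGroup.iff_card.1 hA2; rw [hn]; exact hKc.symm.pow_left n)
    (fun a ha ha1 => by
      obtain ⟨s, hs, rfl⟩ := hAS ha
      rintro _ ⟨⟨u, hu, rfl⟩, hus⟩
      have h1 := Subgroup.mem_centralizer_singleton_iff.1 hus
      rw [← map_mul, ← map_mul, ← mul_inv_eq_one, ← map_inv, ← map_mul, hπ1] at h1
      have h2 : ((u * s * (s * u)⁻¹ : ↥M) : G) ∈ U := by
        have hu' : (u : G) ∈ U := hu
        have := mul_mem hu' ((Subgroup.mem_normalizer_iff.1 (hSU hs) (u : G)⁻¹).1 (inv_mem hu'))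
        simpa [mul_assoc] using this
      obtain ⟨n, hn⟩ := two_pow_of_mem_sylow (ctr_le _ (hHS h1))
      have h3 := eq_one_of_odd_of_two hU
        (by
          have := congrArg Subtype.val (pow_card_eq_one' (G := U) (x := ⟨_, h2⟩))
          rwa [SubmonoidClass.coe_pow, OneMemClass.coe_one] at this)
        ⟨n, hn⟩
      refine ⟨u, ⟨hu, hW s hs (fun h => ha1 ((hπ1 s).2 h)) ⟨hu, ?_⟩⟩, rfl⟩
      refine Subgroup.mem_centralizer_singleton_iff.2 ?_
      rw [Subgroup.coe_mul, Subgroup.coe_inv, mul_inv_eq_one] at h3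
      exact h3)
  intro u hu
  obtain ⟨w, hw, he⟩ := hle (Subgroup.mem_map_of_mem π (show (⟨u, hUM hu⟩ : ↥M) ∈ U.subgroupOf M from hu))
  have h1 : (w : G)⁻¹ * u ∈ H := (hπ1 (w⁻¹ * ⟨u, hUM hu⟩)).1 (by rw [map_mul, map_inv, he, inv_mul_cancel])
  obtain ⟨n, hn⟩ := two_pow_of_mem_sylow (ctr_le _ (hHS h1))
  have h3 := eq_one_of_odd_of_two hU
    (by
      have := congrArg Subtype.val (pow_card_eq_one' (G := U) (x := ⟨_, mul_mem (inv_mem hw.1) hu⟩))
      rwa [SubmonoidClass.coe_pow, OneMemClass.coe_one] at this)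
    ⟨n, hn⟩
  rw [inv_mul_eq_one] at h3
  exact h3 ▸ hw.2

theorem commute_core [Finite G] (hci : CI G) (S : Sylow 2 G) {O : Subgroup G} [hOn : O.Normal]
    (hO : (Nat.card O).Coprime 2)
    (htwo : ∀ a ∈ (S : Subgroup G), ∀ b ∈ (S : Subgroup G),
      ¬ (S : Subgroup G) ≤ Subgroup.closure {a, b} ⊔ ctr (S : Subgroup G)) :
    ∀ o ∈ O, ∀ s ∈ (S : Subgroup G), o * s = s * o := by
  haveI : Fact (Nat.Prime 2) := ⟨Nat.prime_two⟩
  set CS := Subgroup.centralizer ((S : Subgroup G) : Set G)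
  suffices h : ∀ (n : ℕ) (H : Subgroup G), H ≤ ctr (S : Subgroup G) →
      Nat.card (S : Subgroup G) - Nat.card H = n → O ⊓ Subgroup.centralizer (H : Set G) ≤ CS by
    intro o ho s hs
    exact ((h _ ⊥ bot_le rfl) ⟨ho, fun x hx => by
      rw [SetLike.mem_coe, Subgroup.mem_bot] at hx
      rw [hx, one_mul, mul_one]⟩ s hs).symm
  intro n
  induction n using Nat.strong_induction_on with
  | _ n ih =>
  intro H hH hn
  set U := O ⊓ Subgroup.centralizer (H : Set G)
  have hUc : (Nat.card U).Coprime 2 := hO.coprime_dvd_left (Subgroup.card_dvd_of_le inf_le_left)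
  have hSU : (S : Subgroup G) ≤ Subgroup.normalizer (U : Set G) := fun s hs =>
    Coprime.mem_normalizer_of_forall fun u hu => ⟨hOn.conj_mem u hu.1 s, fun h hh => by
      have e1 : Commute h s := ((hH hh).2 s hs).symm
      exact ((e1.mul_right (hu.2 h hh)).mul_right e1.inv_right).eq⟩
  have hW : ∀ a ∈ (S : Subgroup G), a ∉ H → U ⊓ Subgroup.centralizer {a} ≤ CS := by
    intro a ha haH u hu
    by_cases haz : a ∈ ctr (S : Subgroup G)
    · have hH' : H ⊔ Subgroup.zpowers a ≤ ctr (S : Subgroup G) :=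
        sup_le hH (Subgroup.zpowers_le.2 haz)
      have hlt : Nat.card H < Nat.card (H ⊔ Subgroup.zpowers a : Subgroup G) :=
        (Subgroup.card_le_of_le le_sup_left).lt_of_ne fun e => haH
          ((Subgroup.eq_of_le_of_card_ge (le_sup_left : H ≤ H ⊔ Subgroup.zpowers a) e.ge).ge
            (Subgroup.mem_sup_right (Subgroup.mem_zpowers a)))
      have hle : Nat.card (H ⊔ Subgroup.zpowers a : Subgroup G) ≤ Nat.card (S : Subgroup G) :=
        Subgroup.card_le_of_le (hH'.trans (ctr_le _))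
      refine ih _ (by omega) _ hH' rfl ⟨hu.1.1, ?_⟩
      have hgen : H ⊔ Subgroup.zpowers a ≤ Subgroup.centralizer ({u} : Set G) := sup_le
        (fun h hh => Subgroup.mem_centralizer_singleton_iff.2 (hu.1.2 h hh))
        (Subgroup.zpowers_le.2 (Subgroup.mem_centralizer_singleton_iff.2
          (Subgroup.mem_centralizer_singleton_iff.1 hu.2).symm))
      exact fun h hh => Subgroup.mem_centralizer_singleton_iff.1 (hgen hh)
    · intro s hs
      exact (hci.commute_of_odd hO ha haz hu.1.1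
        (Subgroup.mem_centralizer_singleton_iff.1 hu.2) s hs).symm
  by_contra hU
  have hSn : (H.subgroupOf (S : Subgroup G)).Normal := ⟨fun h hh g => by
    rw [Subgroup.mem_subgroupOf] at hh ⊢
    rw [Subgroup.coe_mul, Subgroup.coe_mul, Subgroup.coe_inv, (hH hh).2 g g.2, mul_inv_cancel_right]
    exact hh⟩
  set H' := H.subgroupOf (S : Subgroup G)
  have h1 : ∀ z : ↥(S : Subgroup G), (z : ↥(S : Subgroup G) ⧸ H') = 1 ↔ (z : G) ∈ H := fun z => by
    rw [QuotientGroup.eq_one_iff, Subgroup.mem_subgroupOf]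
  have hpair : ∀ x y : ↥(S : Subgroup G) ⧸ H', x ≠ 1 → y ≠ 1 → x * x = 1 → y * y = 1 →
      x * y = y * x → x = y := by
    intro x y hx hy hxx hyy hxy
    obtain ⟨a, rfl⟩ := QuotientGroup.mk_surjective x
    obtain ⟨b, rfl⟩ := QuotientGroup.mk_surjective y
    by_contra hne
    refine hU (le_of_pair_mod S hH hUc inf_le_right hSU hW a.2 b.2 (fun e => hx ((h1 a).2 e))
      (fun e => hy ((h1 b).2 e)) ((h1 (a * a)).1 hxx) ((h1 (b * b)).1 hyy)
      (fun e => hne ?_) ((h1 (a * b * a⁻¹ * b⁻¹)).1 ?_))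
    · rw [← mul_inv_eq_one, ← QuotientGroup.mk_inv, ← QuotientGroup.mk_mul]
      exact (h1 (a * b⁻¹)).2 e
    · rw [QuotientGroup.mk_mul, QuotientGroup.mk_mul, QuotientGroup.mk_mul, hxy,
        QuotientGroup.mk_inv, QuotientGroup.mk_inv, mul_inv_cancel_right, mul_inv_cancel]
  have hQ2 : IsPGroup 2 (↥(S : Subgroup G) ⧸ H') := S.isPGroup'.to_quotient H'
  have huniq : ∀ x y : ↥(S : Subgroup G) ⧸ H', orderOf x = 2 → y ^ 2 = 1 →
      y ∈ Subgroup.zpowers x := by
    intro x y hx hy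
    by_cases hy1 : y = 1
    · rw [hy1]; exact one_mem _
    have hx1 : x ≠ 1 := fun e => by rw [e, orderOf_one] at hx; omega
    haveI : Nontrivial (↥(S : Subgroup G) ⧸ H') := ⟨⟨y, 1, hy1⟩⟩
    haveI := hQ2.center_nontrivial
    obtain ⟨z, hz⟩ := exists_prime_orderOf_dvd_card' (G := ↥(Subgroup.center (↥(S : Subgroup G) ⧸ H'))) 2
      (by
        obtain ⟨k, hk⟩ := IsPGroup.iff_card.1 (hQ2.to_subgroup (Subgroup.center _))
        rw [hk]
        refine dvd_pow_self 2 fun e => ?_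
        rw [e, pow_zero] at hk
        exact absurd hk (Nat.ne_of_gt Finite.one_lt_card))
    have hz2 : (z : ↥(S : Subgroup G) ⧸ H') * z = 1 := by
      rw [← pow_two, ← SubmonoidClass.coe_pow,
        show z ^ 2 = 1 from (congrArg (z ^ ·) hz).symm.trans (pow_orderOf_eq_one z), OneMemClass.coe_one]
    have hz1 : (z : ↥(S : Subgroup G) ⧸ H') ≠ 1 := fun e => by
      rw [← Subgroup.orderOf_coe, e, orderOf_one] at hz
      omega
    have e1 := hpair x z hx1 hz1 ((pow_two x).symm.trans ((congrArg (x ^ ·) hx).symm.trans (pow_orderOf_eq_one x))) hz2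
      (Subgroup.mem_center_iff.1 z.2 x)
    have e2 := hpair y z hy1 hz1 (by rw [← pow_two, hy]) hz2 (Subgroup.mem_center_iff.1 z.2 y)
    rw [e2, ← e1]
    exact Subgroup.mem_zpowers x
  obtain ⟨x, y, hxy⟩ := exists_pair_of_unique hQ2 huniq
  obtain ⟨a, rfl⟩ := QuotientGroup.mk_surjective x
  obtain ⟨b, rfl⟩ := QuotientGroup.mk_surjective y
  refine htwo a a.2 b b.2 fun s hs => ?_
  have hs' : (QuotientGroup.mk' H') ⟨s, hs⟩ ∈
      (Subgroup.closure ({a, b} : Set ↥(S : Subgroup G))).map (QuotientGroup.mk' H') := by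
    rw [MonoidHom.map_closure, Set.image_pair]
    simp only [QuotientGroup.mk'_apply, hxy, Subgroup.mem_top]
  obtain ⟨c, hc, he⟩ := hs'
  have hcs : (c : G) ∈ Subgroup.closure ({(a : G), (b : G)} : Set G) := by
    have := Subgroup.mem_map_of_mem (S : Subgroup G).subtype hc
    rwa [MonoidHom.map_closure, Set.image_pair] at this
  have hh : (c : G)⁻¹ * s ∈ H := (h1 (c⁻¹ * ⟨s, hs⟩)).1 (by
    rw [QuotientGroup.mk_mul, QuotientGroup.mk_inv, inv_mul_eq_one]
    exact he)
  have := Subgroup.mul_mem_sup hcs (hH hh)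
  rwa [mul_inv_cancel_left] at this

end Cfsg.Agent.CISylow
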