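import Cfsg.Agent.Lib.CISylow.Ident

/-!
# `PSL(2, 2ⁿ)` has abelian Sylow 2-subgroups; the linear case is `SL(2, 5)` (helper21)
-/

set_option autoImplicit false

namespace Cfsg.Agent.CISylow

open Cfsg Matrix
open scoped MatrixGroups

universe u

variable {F : Type} [Field F]

/-- The upper unitriangular matrix with entry `a`. -/
def upperOne (a : F) : SpecialLinearGroup (Fin 2) F := ⟨!![1, a; 0, 1], by simp [Matrix.det_fin_two]⟩

theorem coe_upperOne (a : F) :
    (upperOne a : Matrix (Fin 2) (Fin 2) F) = !![1, a; 0, 1] := rfl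

theorem upperOne_mul (a b : F) : upperOne a * upperOne b = upperOne (a + b) := by
  ext i j
  fin_cases i <;> fin_cases j <;>
    simp [SpecialLinearGroup.coe_mul, coe_upperOne, Matrix.mul_apply, Fin.sum_univ_two, add_comm]

/-- The upper unitriangular subgroup of `PSL(2, F)`. -/
def upperHom (F : Type) [Field F] :
    Multiplicative F →* ProjectiveSpecialLinearGroup (Fin 2) F :=
  (QuotientGroup.mk' _).comp (MonoidHom.mk' (fun a => upperOne (Multiplicative.toAdd a))
    fun a b => (upperOne_mul _ _).symm)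

theorem upperHom_injective : Function.Injective (upperHom F) := by
  rw [injective_iff_map_eq_one]
  intro a ha
  have h : upperOne (Multiplicative.toAdd a) ∈ Subgroup.center (SpecialLinearGroup (Fin 2) F) :=
    (QuotientGroup.eq_one_iff _).1 ha
  obtain ⟨M, hM⟩ : ∃ M : SpecialLinearGroup (Fin 2) F,
      (M : Matrix (Fin 2) (Fin 2) F) = !![1, 0; 1, 1] :=
    ⟨⟨!![1, 0; 1, 1], by simp [Matrix.det_fin_two]⟩, rfl⟩
  have hcomm := Subgroup.mem_center_iff.1 h M
  have h1 := congrArg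
    (fun M : SpecialLinearGroup (Fin 2) F => (M : Matrix (Fin 2) (Fin 2) F) 0 0) hcomm
  simp [SpecialLinearGroup.coe_mul, coe_upperOne, hM, Matrix.mul_apply, Fin.sum_univ_two] at h1
  exact h1

theorem sylow_comm_psl [Fintype F] {n : ℕ} (hn : 1 ≤ n) (hF : Fintype.card F = 2 ^ n)
    {X : Type u} [Group X] [Finite X] (e : X ≃* ProjectiveSpecialLinearGroup (Fin 2) F)
    (P : Sylow 2 X) : IsMulCommutative (P : Subgroup X) := by
  haveI : Fact (Nat.Prime 2) := ⟨Nat.prime_two⟩
  set U := ((upperHom F).range).comap e.toMonoidHom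
  have hcomm : ∀ a ∈ U, ∀ b ∈ U, a * b = b * a := by
    rintro a ⟨x, hx⟩ b ⟨y, hy⟩
    refine e.injective ?_
    rw [map_mul, map_mul, show e a = upperHom F x from hx.symm, show e b = upperHom F y from hy.symm,
      ← map_mul, ← map_mul, mul_comm]
  have hcard : Nat.card U = 2 ^ n := by
    rw [show Nat.card U = Nat.card (upperHom F).range from
      Nat.card_congr (e.toEquiv.subtypeEquiv fun x => Iff.rfl),
      ← Nat.card_congr ((upperHom F).ofInjective upperHom_injective).toEquiv,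
      Nat.card_congr Multiplicative.toAdd, Nat.card_eq_fintype_card, hF]
  obtain ⟨T, hT⟩ := (IsPGroup.of_card hcard).exists_le_sylow
  have hTU : U = (T : Subgroup X) := Subgroup.eq_of_le_of_card_ge hT (by
    rw [hcard, card_sylow_psl_two hn hF e T])
  obtain ⟨g, rfl⟩ := MulAction.exists_smul_eq X T P
  refine ⟨⟨fun a b => Subtype.ext ?_⟩⟩
  have ha : g⁻¹ * (a : X) * g ∈ U := hTU ▸ (mem_smul_iff T).1 a.2
  have hb : g⁻¹ * (b : X) * g ∈ U := hTU ▸ (mem_smul_iff T).1 b.2
  have h := congrArg (fun z => g * z * g⁻¹) (hcomm _ ha _ hb)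
  simpa [mul_assoc] using h

/-- A perfect central 2-extension of one of the three families with a nonabelian Sylow 2-subgroup is
`SL(2, 5)` or lies over a Suzuki or unitary group. -/
theorem sl_five_or_bigFamily {Γ : Type u} [Group Γ] [Finite Γ] [Group.IsPerfect Γ]
    (hfam : Families (Γ ⧸ Subgroup.center Γ)) (Q : Sylow 2 Γ)
    (hnc : ¬ IsMulCommutative (Q : Subgroup Γ)) :
    Nonempty (Γ ≃* SpecialLinearGroup (Fin 2) (ZMod 5)) ∨
      Cfsg.Lie.IsoSuzuki (Γ ⧸ Subgroup.center Γ) ∨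
      ∃ (F : Type) (_ : Field F) (_ : Fintype F) (n : ℕ), 2 ≤ n ∧ Fintype.card F = (2 ^ n) ^ 2 ∧
        Nonempty (Γ ⧸ Subgroup.center Γ ≃* Cfsg.PSU 3 F (2 ^ n)) := by
  haveI : Fact (Nat.Prime 2) := ⟨Nat.prime_two⟩
  rcases hfam with ⟨F, _, _, n, hn, hF, ⟨e⟩⟩ | h
  · left
    set P := Q.mapSurjective (QuotientGroup.mk'_surjective (Subgroup.center Γ))
    have hP : IsMulCommutative (P : Subgroup (Γ ⧸ Subgroup.center Γ)) :=
      sylow_comm_psl (by omega) hF e P
    have hne : Subgroup.center Γ ≠ ⊥ := fun hbot => hnc ⟨⟨fun a b => Subtype.ext (by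
      have hab := congrArg Subtype.val (hP.is_comm.comm
        ⟨_, Subgroup.mem_map_of_mem (QuotientGroup.mk' (Subgroup.center Γ)) a.2⟩
        ⟨_, Subgroup.mem_map_of_mem (QuotientGroup.mk' (Subgroup.center Γ)) b.2⟩)
      rw [Subgroup.coe_mul, Subgroup.coe_mul, ← map_mul, ← map_mul, QuotientGroup.mk'_apply,
        QuotientGroup.mk'_apply, QuotientGroup.eq_iff_div_mem] at hab
      rw [Subgroup.coe_mul, Subgroup.coe_mul]
      exact div_eq_one.1 (Subgroup.mem_bot.1 (hbot.le hab)))⟩⟩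
    obtain ⟨-, F', _, _, hF', ⟨e'⟩⟩ := psl_four_of_abelian
      (Or.inl ⟨F, _, _, n, hn, hF, ⟨e⟩⟩) P hP hne
    exact sl_five_of_psl_four hne hF' e'
  · exact Or.inr h

end Cfsg.Agent.CISylow
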