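import Cfsg.Agent.Lib.CISylow.Envelope
import Cfsg.Agent.Lib.Unitary.SylowThree

/-!
# The Sylow 2-subgroup is not two-generated modulo its centre (helper21)

In the Suzuki and unitary cases `P / Z(P)` is elementary of order at least eight.
-/

set_option autoImplicit false

namespace Cfsg.Agent.CISylow

open Cfsg

universe u

/-- `P / Z(P)` is elementary of order at least eight. -/
theorem sylow_big {X : Type u} [Group X] [Finite X] (h : Cfsg.Lie.IsoSuzuki X ∨
      ∃ (F : Type) (_ : Field F) (_ : Fintype F) (n : ℕ), 2 ≤ n ∧ Fintype.card F = (2 ^ n) ^ 2 ∧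
        Nonempty (X ≃* Cfsg.PSU 3 F (2 ^ n))) (P : Sylow 2 X) :
    (∀ x : ↥(P : Subgroup X), x * x ∈ Subgroup.center ↥(P : Subgroup X)) ∧
      8 * Nat.card (Subgroup.center ↥(P : Subgroup X)) ≤ Nat.card (P : Subgroup X) := by
  haveI : Fact (Nat.Prime 2) := ⟨Nat.prime_two⟩
  rcases h with h | ⟨F, _, _, n, hn, hF, ⟨e⟩⟩
  · obtain ⟨q, hq⟩ := Goldschmidt.ThreePrime.szFacts h
    have hs := (Goldschmidt.Facts.groupFacts_of_szFacts hq).sylow P
    refine ⟨hs.sq_mem, ?_⟩
    rw [hs.card_center, hq.card_sylow P, pow_two]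
    obtain ⟨k, hk, rfl⟩ := hq.pow
    have h8 : 8 ≤ 2 ^ (2 * k + 1) :=
      le_trans (by norm_num) (Nat.pow_le_pow_right (by norm_num : 1 ≤ 2) (show 3 ≤ 2 * k + 1 by omega))
    exact Nat.mul_le_mul h8 le_rfl
  · have hs := (Goldschmidt.Facts.groupFacts_of_psu hn hF e).sylow P
    refine ⟨hs.sq_mem, ?_⟩
    have h2 : (2 : F) = 0 := by
      have h0 : ((2 : ℕ) : F) ^ (n * 2) = 0 := by
        rw [← Nat.cast_pow, pow_mul, ← hF]; exact FiniteField.cast_card_eq_zero F
      exact_mod_cast eq_zero_of_pow_eq_zero h0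
    obtain ⟨P'⟩ : Nonempty (Sylow 2 (Cfsg.PSU 3 F (2 ^ n))) := inferInstance
    obtain ⟨e'⟩ := Unitary.exists_equiv (by omega) rfl hF h2 P'
    have hP : Nat.card (P : Subgroup X) = (2 ^ n) ^ 3 := by
      rw [P.card_eq_multiplicity, Nat.card_congr e.toEquiv, ← P'.card_eq_multiplicity,
        ← Nat.card_congr e'.toEquiv, Unitary.card_sylThree]
    rw [hs.card_center, hP]
    have h4 : 4 ≤ 2 ^ n := le_trans (by norm_num) (Nat.pow_le_pow_right (by norm_num : 1 ≤ 2) hn)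
    rw [show (2 ^ n) ^ 3 = (2 ^ n * 2 ^ n) * 2 ^ n by ring]
    exact Nat.mul_le_mul (le_trans (by norm_num) (Nat.mul_le_mul h4 h4)) le_rfl

/-- A group of exponent two generated by two elements has order at most four. -/
theorem card_le_four_of_pair {Q : Type u} [Group Q] [Finite Q] (h2 : ∀ x : Q, x * x = 1) {a b : Q}
    (hgen : Subgroup.closure ({a, b} : Set Q) = ⊤) : Nat.card Q ≤ 4 := by
  have hc : ∀ x y : Q, x * y = y * x := fun x y => by
    have e : ∀ z : Q, z⁻¹ = z := fun z => inv_eq_of_mul_eq_one_right (h2 z)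
    calc x * y = (x * y)⁻¹ := (e _).symm
      _ = y * x := by rw [mul_inv_rev, e, e]
  haveI : (Subgroup.zpowers b).Normal := ⟨fun z hz g => by rwa [hc g z, mul_inv_cancel_right]⟩
  have hle : ∀ z : Q, Nat.card (Subgroup.zpowers z) ∣ 2 := fun z => by
    rw [Nat.card_zpowers]; exact orderOf_dvd_of_pow_eq_one (by rw [pow_two, h2])
  have hsup : Subgroup.zpowers a ⊔ Subgroup.zpowers b = ⊤ := by
    rw [← hgen, Subgroup.zpowers_eq_closure, Subgroup.zpowers_eq_closure, ← Subgroup.closure_union,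
      Set.singleton_union]
  have h := Cores.card_sup_dvd (Subgroup.zpowers a) (Subgroup.zpowers b)
  rw [hsup, Subgroup.card_top] at h
  exact (Nat.le_of_dvd (by norm_num) (h.trans (mul_dvd_mul (hle a) (hle b)))).trans (by norm_num)

/-- If `L / Z(L)` is a Suzuki or unitary group then `S` is not two-generated modulo its centre. -/
theorem not_pair {G : Type u} [Group G] [Finite G] (S : Sylow 2 G) {K : Type u} [Group K] [Finite K]
    (f : G →* K) {Sx : Sylow 2 K} (hSx : (Sx : Subgroup K) = (S : Subgroup G).map f) {L : Subgroup K}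
    (h : Data Sx L) (hbig : Cfsg.Lie.IsoSuzuki (Bar L) ∨
      ∃ (F : Type) (_ : Field F) (_ : Fintype F) (n : ℕ), 2 ≤ n ∧ Fintype.card F = (2 ^ n) ^ 2 ∧
        Nonempty (Bar L ≃* Cfsg.PSU 3 F (2 ^ n))) :
    ∀ a ∈ (S : Subgroup G), ∀ b ∈ (S : Subgroup G),
      ¬ (S : Subgroup G) ≤ Subgroup.closure {a, b} ⊔ ctr (S : Subgroup G) := by
  haveI : Fact (Nat.Prime 2) := ⟨Nat.prime_two⟩
  haveI := h.normal
  intro a ha b hb hle
  obtain ⟨Q, hQ⟩ := exists_sylow_component h.comp Sx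
  set P := Q.mapSurjective (toBar_surjective L) with hPd
  obtain ⟨hsq, h8⟩ := sylow_big hbig P
  set Zp := (Subgroup.center ↥(P : Subgroup (Bar L))).map (P : Subgroup (Bar L)).subtype
  have hmemS : ∀ {g : G}, g ∈ (S : Subgroup G) → f g ∈ (Sx : Subgroup K) := fun {g} hg => by
    rw [hSx]; exact Subgroup.mem_map_of_mem f hg
  have hQmem : ∀ {q : ↥L}, q ∈ (Q : Subgroup ↥L) ↔ (q : K) ∈ (Sx : Subgroup K) := fun {q} => by
    rw [hQ]; exact Subgroup.mem_subgroupOf
  obtain ⟨qa, hqa, aa, haa, hea⟩ := h.exists_eq (hmemS ha)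
  obtain ⟨qb, hqb, ab, hab, heb⟩ := h.exists_eq (hmemS hb)
  set pa := toBar L ⟨qa, hqa.2⟩
  set pb := toBar L ⟨qb, hqb.2⟩
  set M := Subgroup.closure ({pa, pb} : Set (Bar L)) ⊔ Zp
  set T := (((M.comap (toBar L)).map L.subtype) ⊔ pCore 2 K).comap f
  have hT : Subgroup.closure {a, b} ⊔ ctr (S : Subgroup G) ≤ T := by
    refine sup_le ((Subgroup.closure_le _).2 ?_) fun z hz => ?_
    · rintro x (rfl | rfl) <;> rw [SetLike.mem_coe, Subgroup.mem_comap]
      · rw [← hea]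
        exact Subgroup.mul_mem_sup ⟨⟨qa, hqa.2⟩, Subgroup.mem_sup_left
          (Subgroup.subset_closure (Set.mem_insert _ _)), rfl⟩ haa
      · rw [← heb]
        exact Subgroup.mul_mem_sup ⟨⟨qb, hqb.2⟩, Subgroup.mem_sup_left
          (Subgroup.subset_closure (Set.mem_insert_of_mem _ rfl)), rfl⟩ hab
    · obtain ⟨q, hq, c, hc, hec⟩ := h.exists_eq (hmemS hz.1)
      have hfz : f z ∈ ctr (Sx : Subgroup K) := by
        refine ⟨hmemS hz.1, fun s hs => ?_⟩
        rw [hSx] at hs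
        obtain ⟨s, hs, rfl⟩ := hs
        rw [← map_mul, ← map_mul, hz.2 s hs]
      have hqz : q ∈ ctr (Sx : Subgroup K) := by
        have := mul_mem hfz (inv_mem (h.toCtx.pCore_le_ctr Sx hc))
        rwa [← hec, mul_inv_cancel_right] at this
      rw [Subgroup.mem_comap, ← hec]
      refine Subgroup.mul_mem_sup ⟨⟨q, hq.2⟩, Subgroup.mem_sup_right ?_, rfl⟩ hc
      refine ⟨⟨_, Subgroup.mem_map_of_mem _ (hQmem.2 hq.1)⟩, Subgroup.mem_center_iff.2 ?_, rfl⟩
      rintro ⟨_, r, hr, rfl⟩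
      refine Subtype.ext ?_
      show toBar L r * toBar L ⟨q, hq.2⟩ = toBar L ⟨q, hq.2⟩ * toBar L r
      rw [← map_mul, ← map_mul]
      exact congrArg (toBar L) (Subtype.ext (hqz.2 r (hQmem.1 hr)))
  have hPM : (P : Subgroup (Bar L)) ≤ M := by
    rintro _ ⟨q, hq, rfl⟩
    have hq' := hQmem.1 hq
    rw [hSx] at hq'
    obtain ⟨s, hs, hes⟩ := hq'
    have h1 : f s ∈ ((M.comap (toBar L)).map L.subtype) ⊔ pCore 2 K := hT (hle hs)
    obtain ⟨_, ⟨m, hm, rfl⟩, c, hc, he⟩ := Subgroup.mem_sup_of_normal_right.1 h1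
    have he' : (m : K) * c = (q : K) := he.trans hes
    have hcL : c ∈ L := by
      have := mul_mem (inv_mem m.2) q.2
      rwa [← he', inv_mul_cancel_left] at this
    have hcz : (⟨c, hcL⟩ : ↥L) ∈ Subgroup.center ↥L :=
      mem_center_iff'.2 fun l hl => (h.toCompCtx.pCore_commute hc l hl).symm
    have hqm : toBar L q = toBar L m := by
      rw [show q = m * ⟨c, hcL⟩ from Subtype.ext he'.symm, map_mul,
        show toBar L ⟨c, hcL⟩ = 1 from MonoidHom.mem_ker.1 ((ker_toBar L).ge hcz), mul_one]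
    rw [hqm]
    exact hm
  have hpaP : pa ∈ (P : Subgroup (Bar L)) := Subgroup.mem_map_of_mem _ (hQmem.2 hqa.1)
  have hpbP : pb ∈ (P : Subgroup (Bar L)) := Subgroup.mem_map_of_mem _ (hQmem.2 hqb.1)
  set Z := Subgroup.center ↥(P : Subgroup (Bar L))
  set π := QuotientGroup.mk' Z
  have h4 := card_le_four_of_pair (Q := ↥(P : Subgroup (Bar L)) ⧸ Z) (fun x => by
      obtain ⟨x, rfl⟩ := QuotientGroup.mk_surjective x
      rw [← QuotientGroup.mk_mul, QuotientGroup.eq_one_iff]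
      exact hsq x) (a := π ⟨pa, hpaP⟩) (b := π ⟨pb, hpbP⟩) (by
    refine eq_top_iff.2 fun x _ => ?_
    obtain ⟨x, rfl⟩ := QuotientGroup.mk'_surjective Z x
    set C := Subgroup.closure ({π ⟨pa, hpaP⟩, π ⟨pb, hpbP⟩} :
      Set (↥(P : Subgroup (Bar L)) ⧸ Z))
    have hMC : M ≤ (C.comap π).map (P : Subgroup (Bar L)).subtype := by
      refine sup_le ((Subgroup.closure_le _).2 ?_) ?_
      · rintro y (rfl | rfl)
        · exact ⟨⟨pa, hpaP⟩, Subgroup.subset_closure (Set.mem_insert _ _), rfl⟩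
        · exact ⟨⟨pb, hpbP⟩, Subgroup.subset_closure (Set.mem_insert_of_mem _ rfl), rfl⟩
      · rintro _ ⟨z, hz, rfl⟩
        refine ⟨z, ?_, rfl⟩
        show π z ∈ C
        rw [show π z = 1 from (QuotientGroup.eq_one_iff z).2 hz]
        exact one_mem _
    obtain ⟨y, hy, he⟩ := hMC (hPM x.2)
    exact Subtype.ext he ▸ hy)
  have := Subgroup.card_eq_card_quotient_mul_card_subgroup Z
  have hpos : 0 < Nat.card Z := Nat.card_pos
  nlinarith

end Cfsg.Agent.CISylow
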