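import Cfsg.Agent.Lib.CISylow.Structure
import Cfsg.Agent.Lib.CISylow.Linear
import Cfsg.Agent.Lib.CISylow.Covers
import Cfsg.Agent.Lib.CISylow.TwoGen
import Cfsg.Agent.Lib.CISylow.Fpf
import Cfsg.Agent.Lib.OddOrder.PLengthOne

/-!
# The structure of groups with central Sylow 2-intersections, modulo Goldschmidt's theorem (helper21)

`of_gold` : the four cases of S3181.
-/

set_option autoImplicit false

namespace Cfsg.Agent.CISylow

open Cfsg
open scoped commutatorElement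

universe u

variable {G : Type u} [Group G] [Finite G]

theorem eq_one_of_core_sylow {S : Sylow 2 G} {x : G} (hx : x ∈ pPrimeCore 2 G)
    (hxS : x ∈ (S : Subgroup G)) : x = 1 :=
  eq_one_of_odd_of_two (Cores.coprime_card_pPrimeCore 2) (pow_card_of_mem hx)
    (two_pow_of_mem_sylow hxS)

theorem commute_of_mk_eq {S : Sylow 2 G} {a b : G} (ha : a ∈ (S : Subgroup G))
    (hb : b ∈ (S : Subgroup G))
    (h : QuotientGroup.mk' (pPrimeCore 2 G) (a * b) = QuotientGroup.mk' (pPrimeCore 2 G) (b * a)) :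
    a * b = b * a := by
  rw [QuotientGroup.mk'_apply, QuotientGroup.mk'_apply, QuotientGroup.eq_iff_div_mem,
    div_eq_mul_inv] at h
  exact mul_inv_eq_one.1
    (eq_one_of_core_sylow h (mul_mem (mul_mem ha hb) (inv_mem (mul_mem hb ha))))

theorem odd_index_of_sylow_le {S : Sylow 2 G} {M : Subgroup G} (h : (S : Subgroup G) ≤ M) :
    Odd M.index := by
  haveI : Fact (Nat.Prime 2) := ⟨Nat.prime_two⟩
  refine Odd.of_dvd_nat ?_ (Subgroup.index_dvd_of_le h)
  exact Nat.odd_iff.2 (by have := S.not_dvd_index; omega)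

theorem odd_card_core : Odd (Nat.card (pPrimeCore 2 G)) :=
  Nat.coprime_two_right.1 (Cores.coprime_card_pPrimeCore (G := G) 2)

/-- The case of a normal Sylow 2-subgroup modulo the odd core. -/
theorem solvable_case (S : Sylow 2 G)
    (hn : ((S : Subgroup G).map (QuotientGroup.mk' (pPrimeCore 2 G))).Normal) :
    Group.IsSolvable G ∧ Cfsg.PLengthLE 2 1 G := by
  haveI : Fact (Nat.Prime 2) := ⟨Nat.prime_two⟩
  haveI : (pPrimeCore 2 G).Normal := Cores.pPrimeCore_normal 2 G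
  set O := pPrimeCore 2 G
  set f := QuotientGroup.mk' O
  set Sx := (S : Subgroup G).map f
  haveI := hn
  have hSx : IsPGroup 2 Sx := S.isPGroup'.map f
  refine ⟨?_, ?_⟩
  · have hidx : Odd Sx.index := by
      rw [← Subgroup.index_comap_of_surjective Sx (QuotientGroup.mk'_surjective O)]
      exact odd_index_of_sylow_le fun s hs => Subgroup.mem_map_of_mem f hs
    haveI : Group.IsSolvable O := OddOrderTheorem.solvable odd_card_core
    haveI : Group.IsNilpotent Sx := hSx.isNilpotent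
    haveI : Group.IsSolvable Sx := inferInstance
    haveI : Group.IsSolvable ((G ⧸ O) ⧸ Sx) := OddOrderTheorem.solvable (by
      rw [← Subgroup.index_eq_card]; exact hidx)
    haveI : Group.IsSolvable (G ⧸ O) :=
      Group.isSolvable_of_ker_le_range Sx.subtype (QuotientGroup.mk' Sx)
        (by rw [QuotientGroup.ker_mk', Subgroup.range_subtype])
    exact Group.isSolvable_of_ker_le_range O.subtype f
      (by rw [QuotientGroup.ker_mk', Subgroup.range_subtype])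
  · rw [PLengthOne.pLengthLE_one_iff, Nat.coprime_two_right]
    refine odd_index_of_sylow_le (S := S) fun s hs => ?_
    exact Cores.le_pCore hn hSx (Subgroup.mem_map_of_mem f hs)

/-- The case `SL(2, 5)`. -/
theorem linear_case (S : Sylow 2 G) {Sx : Sylow 2 (G ⧸ pPrimeCore 2 G)}
    (hSx : (Sx : Subgroup (G ⧸ pPrimeCore 2 G)) =
      (S : Subgroup G).map (QuotientGroup.mk' (pPrimeCore 2 G)))
    {L : Subgroup (G ⧸ pPrimeCore 2 G)} (h : Data Sx L)
    (he : Nonempty (↥L ≃* Matrix.SpecialLinearGroup (Fin 2) (ZMod 5))) :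
    ∃ (N M : Subgroup G) (_ : N.Normal) (_ : M.Normal) (_ : (N.subgroupOf M).Normal), N < M ∧
      Odd (Nat.card ↥N) ∧ Odd M.index ∧
      ∃ A L : Subgroup (↥M ⧸ N.subgroupOf M), IsMulCommutative ↥A ∧ IsPGroup 2 ↥A ∧
        Nonempty (↥L ≃* Matrix.SpecialLinearGroup (Fin 2) (ZMod 5)) ∧
          (∀ a ∈ A, ∀ l ∈ L, a * l = l * a) ∧ A ⊔ L = ⊤ := by
  haveI : Fact (Nat.Prime 2) := ⟨Nat.prime_two⟩
  haveI hOn : (pPrimeCore 2 G).Normal := Cores.pPrimeCore_normal 2 G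
  haveI := h.normal
  set O := pPrimeCore 2 G
  set f := QuotientGroup.mk' O with hfd
  set A := pCore 2 (G ⧸ O)
  set X := A ⊔ L
  set M := X.comap f with hMd
  haveI hMn : M.Normal := Subgroup.Normal.comap inferInstance f
  have hf : Function.Surjective f := QuotientGroup.mk'_surjective O
  have hSM : (S : Subgroup G) ≤ M := fun s hs => by
    have h1 := h.split (show f s ∈ (Sx : Subgroup (G ⧸ O)) by
      rw [hSx]; exact Subgroup.mem_map_of_mem f hs)
    exact (sup_le (inf_le_right.trans le_sup_right) le_sup_left :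
      (Sx : Subgroup (G ⧸ O)) ⊓ L ⊔ A ≤ X) h1
  have hOM : O ≤ M := fun o ho => by
    show f o ∈ X
    rw [show f o = 1 from (QuotientGroup.eq_one_iff o).2 ho]
    exact one_mem _
  have hne : O ≠ M := fun e => by
    refine Components.IsComponent.ne_bot h.comp (le_bot_iff.1 fun l hl => ?_)
    obtain ⟨x, rfl⟩ := hf l
    have hx : x ∈ M := (le_sup_right : L ≤ X) hl
    rw [← e] at hx
    exact (QuotientGroup.eq_one_iff x).2 hx
  haveI hNM : (O.subgroupOf M).Normal := Subgroup.normal_subgroupOf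
  refine ⟨O, M, hOn, hMn, hNM, lt_of_le_of_ne hOM hne, odd_card_core, odd_index_of_sylow_le hSM, ?_⟩
  have hker : (f.subgroupComap X).ker = O.subgroupOf M := by
    ext x
    rw [MonoidHom.mem_ker, Subgroup.mem_subgroupOf]
    exact ⟨fun h => (QuotientGroup.eq_one_iff _).1 (congrArg Subtype.val h),
      fun h => Subtype.ext ((QuotientGroup.eq_one_iff _).2 h)⟩
  let e : ↥M ⧸ O.subgroupOf M ≃* ↥X :=
    (QuotientGroup.quotientMulEquivOfEq hker.symm).trans
      (QuotientGroup.quotientKerEquivOfSurjective _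
        (MonoidHom.subgroupComap_surjective_of_surjective f X hf))
  refine ⟨(A.subgroupOf X).map e.symm.toMonoidHom, (L.subgroupOf X).map e.symm.toMonoidHom,
    ?_, ?_, ?_, ?_, ?_⟩
  · refine ⟨⟨?_⟩⟩
    rintro ⟨_, a, ha, rfl⟩ ⟨_, b, hb, rfl⟩
    refine Subtype.ext ?_
    show e.symm a * e.symm b = e.symm b * e.symm a
    rw [← map_mul, ← map_mul]
    exact congrArg e.symm (Subtype.ext ((h.toCtx.pCore_le_ctr Sx hb).2 _
      (h.toCtx.pCore_le_ctr Sx ha).1))
  · exact ((Cores.isPGroup_pCore 2 (G ⧸ O)).comap_subtype (K := X)).map _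
  · obtain ⟨i⟩ := he
    exact ⟨((Subgroup.equivMapOfInjective _ e.symm.toMonoidHom e.symm.injective).symm.trans
      (Subgroup.subgroupOfEquivOfLe (le_sup_right : L ≤ X))).trans i⟩
  · rintro _ ⟨a, ha, rfl⟩ _ ⟨l, hl, rfl⟩
    show e.symm a * e.symm l = e.symm l * e.symm a
    rw [← map_mul, ← map_mul]
    exact congrArg e.symm (Subtype.ext (h.toCompCtx.pCore_commute ha _ hl))
  · rw [← Subgroup.map_sup, ← Subgroup.subgroupOf_sup le_sup_left le_sup_right,
      Subgroup.subgroupOf_self, Subgroup.map_top_of_surjective _ e.symm.surjective]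

theorem commutator_mul_of_commute {a b z w : G} (hza : Commute z a) (hzb : Commute z b)
    (hwa : Commute w a) (hwb : Commute w b) (hzw : Commute z w) :
    ⁅a * z, b * w⁆ = ⁅a, b⁆ := by
  have h1 : a * z * (b * w) = a * b * (z * w) := hzb.mul_mul_mul_comm a w
  have h2 : b * w * (a * z) = b * a * (w * z) := hwa.mul_mul_mul_comm b z
  calc ⁅a * z, b * w⁆ = a * z * (b * w) * (b * w * (a * z))⁻¹ := by
        rw [commutatorElement_def]; group
    _ = ⁅a, b⁆ := by rw [h1, h2, ← hzw.eq, commutatorElement_def]; group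

/-- The Suzuki and unitary cases. -/
theorem direct_case (hci : CI G) (S : Sylow 2 G) {Sx : Sylow 2 (G ⧸ pPrimeCore 2 G)}
    (hSx : (Sx : Subgroup (G ⧸ pPrimeCore 2 G)) =
      (S : Subgroup G).map (QuotientGroup.mk' (pPrimeCore 2 G)))
    {L : Subgroup (G ⧸ pPrimeCore 2 G)} (h : Data Sx L)
    (hbig : Cfsg.Lie.IsoSuzuki (Bar L) ∨
      ∃ (F : Type) (_ : Field F) (_ : Fintype F) (n : ℕ), 2 ≤ n ∧ Fintype.card F = (2 ^ n) ^ 2 ∧
        Nonempty (Bar L ≃* Cfsg.PSU 3 F (2 ^ n))) :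
    ∃ (M : Subgroup G), M.Normal ∧ Odd M.index ∧ ∃ A L : Subgroup G, IsMulCommutative ↥A ∧ IsPGroup 2 ↥A ∧
      ((Cfsg.IsInternalDirectProduct A L M ∧
          ((∃ (m : ℕ) (F : Type) (_ : Field F) (_ : Fintype F), 1 ≤ m ∧ Fintype.card F = 2 ^ (2 * m + 1) ∧
              Nonempty (↥L ≃* ↥(Cfsg.Lie.Sz F (2 ^ (m + 1))))) ∨
            (∃ (n : ℕ) (F : Type) (_ : Field F) (_ : Fintype F), 2 ≤ n ∧ Fintype.card F = 4 ^ n ∧
              (Nonempty (↥L ≃* Cfsg.PSU 3 F (2 ^ n)) ∨ Nonempty (↥L ≃* ↥(Cfsg.SU 3 F (2 ^ n))))))) ∨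
        (A ≤ M ∧ L ≤ M ∧ (∀ a ∈ A, ∀ l ∈ L, a * l = l * a) ∧ A ⊔ L = M ∧ Group.IsPerfect ↥L ∧
          Subgroup.center ↥L ≠ ⊥ ∧
          ∃ (F : Type) (_ : Field F) (_ : Fintype F), Fintype.card F = 8 ∧
            Nonempty (↥L ⧸ Subgroup.center ↥L ≃* ↥(Cfsg.Lie.Sz F 4)))) := by
  haveI : Fact (Nat.Prime 2) := ⟨Nat.prime_two⟩
  haveI hOn : (pPrimeCore 2 G).Normal := Cores.pPrimeCore_normal 2 G
  haveI := h.normal
  set O := pPrimeCore 2 G
  set f := QuotientGroup.mk' O with hfd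
  have hf : Function.Surjective f := QuotientGroup.mk'_surjective O
  have hfO : ∀ {x : G}, f x = 1 ↔ x ∈ O := fun {x} => QuotientGroup.eq_one_iff x
  have hSO := commute_core hci S (O := O) (Cores.coprime_card_pPrimeCore 2) (not_pair S f hSx h hbig)
  -- a perfect preimage of `L` centralising `O`
  set E := L.comap f ⊓ Subgroup.centralizer (O : Set G) with hE
  haveI : E.Normal := by
    haveI : (L.comap f).Normal := Subgroup.Normal.comap h.normal f
    infer_instance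
  have hEO : ∀ {x : G}, x ∈ E → ∀ o ∈ O, o * x = x * o := fun hx => hx.2
  have hEmap : E.map f = L := by
    refine le_antisymm ((Subgroup.map_mono inf_le_left).trans (Subgroup.map_comap_le _ _)) ?_
    haveI : (E.map f).Normal := (inferInstance : E.Normal).map f hf
    obtain ⟨Q, hQ⟩ := exists_sylow_component h.comp Sx
    rcases Components.IsQuasisimple.normal_eq_top_or_le_center h.comp.2 ((E.map f).subgroupOf L) with e | e
    · exact Subgroup.subgroupOf_eq_top.1 e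
    · refine absurd (fun q hq => e ?_) (not_sylow_le_center h.comp Q)
      rw [hQ, Subgroup.mem_subgroupOf, hSx] at hq
      obtain ⟨s, hs, hes⟩ := hq
      exact ⟨s, ⟨show f s ∈ L from hes ▸ q.2, fun o ho => hSO o ho s hs⟩, hes⟩
  set Lt := ⁅E, E⁆ with hLt
  have hLtE : Lt ≤ E := Subgroup.commutator_le_self E
  have hLtmap : Lt.map f = L := by
    rw [hLt, Subgroup.map_commutator, hEmap, Components.IsComponent.perfect h.comp]
  have hperf : ⁅Lt, Lt⁆ = Lt := by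
    refine le_antisymm (Subgroup.commutator_le_self Lt) ?_
    conv_lhs => rw [hLt]
    refine Subgroup.commutator_le.2 fun a ha b hb => ?_
    obtain ⟨a', ha', hea⟩ := hLtmap.ge (hEmap.le (Subgroup.mem_map_of_mem f ha))
    obtain ⟨b', hb', heb⟩ := hLtmap.ge (hEmap.le (Subgroup.mem_map_of_mem f hb))
    have hz : a'⁻¹ * a ∈ O := hfO.1 (by rw [map_mul, map_inv, hea, inv_mul_cancel])
    have hw : b'⁻¹ * b ∈ O := hfO.1 (by rw [map_mul, map_inv, heb, inv_mul_cancel])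
    have e : ⁅a, b⁆ = ⁅a', b'⁆ := by
      rw [← commutator_mul_of_commute (a := a') (b := b') (z := a'⁻¹ * a) (w := b'⁻¹ * b)
        (hEO (hLtE ha') _ hz) (hEO (hLtE hb') _ hz) (hEO (hLtE ha') _ hw) (hEO (hLtE hb') _ hw)
        (hEO (mul_mem (inv_mem (hLtE hb')) hb) _ hz), mul_inv_cancel_left, mul_inv_cancel_left]
    rw [e]
    exact Subgroup.commutator_mem_commutator ha' hb'
  haveI : Group.IsPerfect ↥Lt := by
    refine (Group.isPerfect_def (G := ↥Lt)).2 (Subgroup.map_injective Lt.subtype_injective ?_)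
    rw [Subgroup.map_subtype_commutator, hperf, ← MonoidHom.range_eq_map, Subgroup.range_subtype]
  let g : ↥Lt →* Bar L := (toBar L).comp ((f.comp Lt.subtype).codRestrict L fun x =>
    hLtmap.le (Subgroup.mem_map_of_mem f x.2))
  have hg : Function.Surjective g := fun y => by
    obtain ⟨l, rfl⟩ := toBar_surjective L y
    obtain ⟨x, hx, e⟩ := hLtmap.ge l.2
    exact ⟨⟨x, hx⟩, congrArg (toBar L) (Subtype.ext e)⟩
  have hmemL : ∀ y ∈ Lt, f y ∈ L := fun y hy => hLtmap.le (Subgroup.mem_map_of_mem f hy)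
  have hLtn : ∀ (x y : G), y ∈ Lt → x * y * x⁻¹ * y⁻¹ ∈ Lt := fun x y hy =>
    mul_mem ((inferInstance : Lt.Normal).conj_mem y hy x) (inv_mem hy)
  have hcomm : ∀ x : G, (∀ y ∈ Lt, f (x * y) = f (y * x)) → ∀ y ∈ Lt, x * y = y * x := by
    intro x hx
    refine commute_of_comm_central hperf fun y hy => ⟨hLtn x y hy, fun z hz => ?_⟩
    have hc : x * y * x⁻¹ * y⁻¹ ∈ O := hfO.1 (by
      rw [map_mul, map_mul, map_inv, map_inv, hx y hy, map_mul]; group)
    exact (hEO (hLtE hz) _ hc).symm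
  have hker : g.ker = Subgroup.center ↥Lt := by
    ext x
    constructor
    · intro hx
      have hx' : (⟨f x, hmemL x x.2⟩ : ↥L) ∈ Subgroup.center ↥L := (ker_toBar L).le hx
      refine mem_center_iff'.2 fun y hy => (hcomm x (fun y hy => ?_) y hy).symm
      rw [map_mul, map_mul]
      exact (mem_center_iff'.1 hx' _ (hmemL y hy)).symm
    · intro hx
      refine MonoidHom.mem_ker.2 (MonoidHom.mem_ker.1 ((ker_toBar L).ge ?_))
      refine mem_center_iff'.2 fun l hl => ?_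
      obtain ⟨y, hy, rfl⟩ := hLtmap.ge hl
      show f y * f x = f x * f y
      rw [← map_mul, ← map_mul, mem_center_iff'.1 hx y hy]
  let e0 : ↥Lt ⧸ Subgroup.center ↥Lt ≃* Bar L :=
    (QuotientGroup.quotientMulEquivOfEq hker.symm).trans
      (QuotientGroup.quotientKerEquivOfSurjective g hg)
  have hcov := cover_cases (Γ := ↥Lt) (by
    rcases hbig with ⟨F, _, _, m, hm, hF, ⟨e⟩⟩ | ⟨F, _, _, n, hn, hF, ⟨e⟩⟩
    · exact Or.inl ⟨F, _, _, m, hm, hF, ⟨e0.trans e⟩⟩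
    · exact Or.inr ⟨F, _, _, n, hn, hF, ⟨e0.trans e⟩⟩)
  -- the abelian 2-group
  set A := (S : Subgroup G) ⊓ (pCore 2 (G ⧸ O)).comap f with hA
  haveI hAn : A.Normal := by
    refine ⟨fun x hx c => ?_⟩
    have hfy : f (c * x * c⁻¹) ∈ pCore 2 (G ⧸ O) := by
      rw [map_mul, map_mul, map_inv]
      exact (Cores.pCore_normal 2 (G ⧸ O)).conj_mem _ hx.2 _
    obtain ⟨a, ha, hea⟩ := hSx.le (Cores.pCore_le_sylow Sx hfy)
    set y := c * x * c⁻¹ with hy
    have ho : y * a⁻¹ ∈ O := hfO.1 (by rw [map_mul, map_inv, hea, mul_inv_cancel])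
    have hcom : Commute (y * a⁻¹) a := hSO _ ho a ha
    have h1 : (y * a⁻¹) ^ Nat.card (S : Subgroup G) = 1 := by
      have h2 := hcom.mul_pow (Nat.card (S : Subgroup G))
      rw [inv_mul_cancel_right, hy, conj_pow, pow_card_of_mem hx.1, mul_one, mul_inv_cancel,
        pow_card_of_mem ha, mul_one] at h2
      exact h2.symm
    obtain ⟨n, hn⟩ := IsPGroup.iff_card.1 S.isPGroup'
    have h3 : y * a⁻¹ ∈ (⊥ : Subgroup G) := by
      refine Coprime.mem_of_pow_mem (n := 2 ^ n) ?_ (by rw [← hn, h1]; exact one_mem _)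
      exact ((Cores.coprime_card_pPrimeCore (G := G) 2).coprime_dvd_left
        (orderOf_dvd_of_pow_eq_one (pow_card_of_mem ho))).pow_right n
    rw [Subgroup.mem_bot, mul_inv_eq_one] at h3
    exact ⟨h3 ▸ ha, hfy⟩
  have hAc : IsMulCommutative ↥A := ⟨⟨fun a b => Subtype.ext (commute_of_mk_eq a.2.1 b.2.1 (by
    rw [map_mul, map_mul]
    exact (h.toCtx.pCore_le_ctr Sx b.2.2).2 _ (h.toCtx.pCore_le_ctr Sx a.2.2).1))⟩⟩
  have hA2 : IsPGroup 2 ↥A := S.isPGroup'.to_le inf_le_left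
  have hAL : ∀ a ∈ A, ∀ l ∈ Lt, a * l = l * a := fun a ha => hcomm a fun y hy => by
    rw [map_mul, map_mul]
    exact h.toCompCtx.pCore_commute ha.2 _ (hmemL y hy)
  have hodd : Odd (A ⊔ Lt).index := by
    have hSM : (S : Subgroup G) ≤ (A ⊔ Lt) ⊔ O := by
      intro s hs
      obtain ⟨q, hq, c, hc, e⟩ := h.exists_eq (show f s ∈ (Sx : Subgroup (G ⧸ O)) by
        rw [hSx]; exact Subgroup.mem_map_of_mem f hs)
      obtain ⟨y, hy, rfl⟩ := hLtmap.ge hq.2
      obtain ⟨a, ha, hea⟩ := hSx.le (Cores.pCore_le_sylow Sx hc)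
      have haA : a ∈ A := ⟨ha, show f a ∈ _ from hea ▸ hc⟩
      have ho : (y * a)⁻¹ * s ∈ O := hfO.1 (by
        rw [map_mul, map_inv, map_mul, hea, ← e, inv_mul_cancel])
      have := Subgroup.mul_mem_sup
        (mul_mem (Subgroup.mem_sup_right (S := A) hy) (Subgroup.mem_sup_left (T := Lt) haA)) ho
      rwa [mul_inv_cancel_left] at this
    have h1 : (A ⊔ Lt).relIndex ((A ⊔ Lt) ⊔ O) ∣ Nat.card O := by
      rw [Subgroup.relIndex_sup_left]
      exact Subgroup.relIndex_dvd_card _ _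
    rw [← Subgroup.relIndex_mul_index (le_sup_left : A ⊔ Lt ≤ (A ⊔ Lt) ⊔ O)]
    exact Odd.mul (Odd.of_dvd_nat odd_card_core h1) (odd_index_of_sylow_le hSM)
  refine ⟨A ⊔ Lt, inferInstance, hodd, A, Lt, hAc, hA2, ?_⟩
  rcases hcov with ⟨hZ, hty⟩ | ⟨hZ, hty⟩
  · refine Or.inl ⟨⟨le_sup_left, le_sup_right, hAL, ?_, rfl⟩, hty⟩
    rw [eq_bot_iff]
    rintro x ⟨hxA, hxL⟩
    have hxZ : (⟨x, hxL⟩ : ↥Lt) ∈ Subgroup.center ↥Lt :=
      mem_center_iff'.2 fun l hl => (hAL x hxA l hl).symm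
    obtain ⟨n, hn⟩ := two_pow_of_mem_sylow hxA.1
    have h2 := pow_card_of_mem hxZ
    exact Subgroup.mem_bot.2 (eq_one_of_odd_of_two (Nat.coprime_two_right.2 hZ)
      (congrArg Subtype.val h2) ⟨n, hn⟩)
  · exact Or.inr ⟨le_sup_left, le_sup_right, hAL, rfl, inferInstance, hZ, hty⟩

theorem of_gold (hGold : Gold.{u}) (hCI : ∀ S T : Sylow 2 G, S ≠ T → ∃ U : Sylow 2 G,
      (S : Subgroup G) ⊓ (T : Subgroup G) ≤ (Subgroup.center ↥(U : Subgroup G)).map (U : Subgroup G).subtype) :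
    (Group.IsSolvable G ∧ Cfsg.PLengthLE 2 1 G) ∨
    (∀ S : Sylow 2 G, IsMulCommutative ↥(S : Subgroup G)) ∨
    (∃ (N M : Subgroup G) (_ : N.Normal) (_ : M.Normal) (_ : (N.subgroupOf M).Normal), N < M ∧ Odd (Nat.card ↥N) ∧ Odd M.index ∧
      ∃ A L : Subgroup (↥M ⧸ N.subgroupOf M), IsMulCommutative ↥A ∧ IsPGroup 2 ↥A ∧
        Nonempty (↥L ≃* Matrix.SpecialLinearGroup (Fin 2) (ZMod 5)) ∧ (∀ a ∈ A, ∀ l ∈ L, a * l = l * a) ∧ A ⊔ L = ⊤) ∨
    (∃ (M : Subgroup G), M.Normal ∧ Odd M.index ∧ ∃ A L : Subgroup G, IsMulCommutative ↥A ∧ IsPGroup 2 ↥A ∧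
      ((Cfsg.IsInternalDirectProduct A L M ∧
          ((∃ (m : ℕ) (F : Type) (_ : Field F) (_ : Fintype F), 1 ≤ m ∧ Fintype.card F = 2 ^ (2 * m + 1) ∧
              Nonempty (↥L ≃* ↥(Cfsg.Lie.Sz F (2 ^ (m + 1))))) ∨
            (∃ (n : ℕ) (F : Type) (_ : Field F) (_ : Fintype F), 2 ≤ n ∧ Fintype.card F = 4 ^ n ∧
              (Nonempty (↥L ≃* Cfsg.PSU 3 F (2 ^ n)) ∨ Nonempty (↥L ≃* ↥(Cfsg.SU 3 F (2 ^ n))))))) ∨
        (A ≤ M ∧ L ≤ M ∧ (∀ a ∈ A, ∀ l ∈ L, a * l = l * a) ∧ A ⊔ L = M ∧ Group.IsPerfect ↥L ∧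
          Subgroup.center ↥L ≠ ⊥ ∧
          ∃ (F : Type) (_ : Field F) (_ : Fintype F), Fintype.card F = 8 ∧
            Nonempty (↥L ⧸ Subgroup.center ↥L ≃* ↥(Cfsg.Lie.Sz F 4))))) := by
  haveI : Fact (Nat.Prime 2) := ⟨Nat.prime_two⟩
  haveI hOn : (pPrimeCore 2 G).Normal := Cores.pPrimeCore_normal 2 G
  obtain ⟨S⟩ : Nonempty (Sylow 2 G) := inferInstance
  by_cases hS : IsMulCommutative ↥(S : Subgroup G)
  · refine Or.inr (Or.inl fun T => ?_)
    obtain ⟨g, rfl⟩ := MulAction.exists_smul_eq G S T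
    refine ⟨⟨fun a b => Subtype.ext ?_⟩⟩
    have e := congrArg (fun z => g * z * g⁻¹) (congrArg Subtype.val (hS.is_comm.comm
      ⟨_, (mem_smul_iff S).1 a.2⟩ ⟨_, (mem_smul_iff S).1 b.2⟩))
    simpa [mul_assoc] using e
  have hci := CI.of_hyp hCI
  set O := pPrimeCore 2 G
  set f := QuotientGroup.mk' O
  set Sx := S.mapSurjective (QuotientGroup.mk'_surjective O)
  have hSx : (Sx : Subgroup (G ⧸ O)) = (S : Subgroup G).map f := Sylow.coe_mapSurjective _ S
  by_cases hn : (Sx : Subgroup (G ⧸ O)).Normal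
  · exact Or.inl (solvable_case S (hSx ▸ hn))
  have hctx : Ctx Sx := by
    refine ⟨hci.map_odd f (QuotientGroup.mk'_surjective O)
      (by rw [QuotientGroup.ker_mk']; exact Cores.coprime_card_pPrimeCore 2),
      Cores.pPrimeCore_quotient_self 2, fun hc => hS ⟨⟨fun a b => Subtype.ext ?_⟩⟩, hn⟩
    refine commute_of_mk_eq a.2 b.2 ?_
    rw [map_mul, map_mul]
    exact congrArg Subtype.val (hc.is_comm.comm ⟨_, hSx.ge (Subgroup.mem_map_of_mem f a.2)⟩
      ⟨_, hSx.ge (Subgroup.mem_map_of_mem f b.2)⟩)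
  obtain ⟨L, hD⟩ := exists_data hGold _ (G ⧸ O) rfl Sx hctx
  haveI : Group.IsPerfect ↥L := hD.comp.2.1
  obtain ⟨Q, hQ⟩ := exists_sylow_component hD.comp Sx
  have hQnc : ¬ IsMulCommutative ↥(Q : Subgroup ↥L) := fun hc =>
    hD.not_comm fun a ha b hb => congrArg (fun z : ↥(Q : Subgroup ↥L) => ((z : ↥L) : G ⧸ O))
      (hc.is_comm.comm ⟨⟨a, ha.2⟩, hQ.ge ha.1⟩ ⟨⟨b, hb.2⟩, hQ.ge hb.1⟩)
  rcases sl_five_or_bigFamily hD.families Q hQnc with he | hbig
  · exact Or.inr (Or.inr (Or.inl (linear_case S hSx hD he)))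
  · exact Or.inr (Or.inr (Or.inr (direct_case hci S hSx hD hbig)))

end Cfsg.Agent.CISylow
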