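import Cfsg.Agent.S0217
import Cfsg.Agent.S0949
import Cfsg.Agent.S1174
import Cfsg.Agent.Lib.CISylow.Local
import Cfsg.Agent.Lib.AbelianSylowTwo.SolvCent
import Cfsg.Agent.Lib.AbelianSylowTwo.RankTwo
import Cfsg.Agent.Lib.Signalizer.Core
import Cfsg.Agent.Lib.Coprime.Generation
import Cfsg.Agent.Lib.OddOrderTheorem.Basic
import Cfsg.Agent.Lib.Transfer.Focal
import Cfsg.Agent.Lib.ZStar.Apply
import Cfsg.Agent.Lib.ZStar.Unique
import Cfsg.Agent.Lib.AbelianTwoFactor.Basic

/-!
# Simple groups with an abelian Sylow 2-subgroup and a closed meet subgroup (helper21)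

`X` simple, `P` abelian Sylow 2, `W < P` contains all meets of `P` with other Sylow 2-subgroups.
If the centralizers of the involutions of `W` are balanced and generated by their cores and
`N(W)`, then `X` has a strongly embedded subgroup.
-/

set_option autoImplicit false

namespace Cfsg.Agent.CISylow

open Cfsg

universe u

/-- The elements of order at most two of an abelian subgroup. -/
def invSub {G : Type*} [Group G] (W : Subgroup G) (hW : ∀ a ∈ W, ∀ b ∈ W, a * b = b * a) :
    Subgroup G where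
  carrier := {x | x ∈ W ∧ x ^ 2 = 1}
  one_mem' := ⟨W.one_mem, one_pow _⟩
  mul_mem' := fun {a b} ha hb => ⟨W.mul_mem ha.1 hb.1, by
    rw [(show Commute a b from hW a ha.1 b hb.1).mul_pow, ha.2, hb.2, one_mul]⟩
  inv_mem' := fun {a} ha => ⟨W.inv_mem ha.1, by rw [inv_pow, ha.2, inv_one]⟩

theorem mem_invSub {G : Type*} [Group G] {W : Subgroup G}
    {hW : ∀ a ∈ W, ∀ b ∈ W, a * b = b * a} {x : G} : x ∈ invSub W hW ↔ x ∈ W ∧ x ^ 2 = 1 :=
  Iff.rfl

theorem orderOf_eq_two {G : Type*} [Group G] {x : G} (h : x ^ 2 = 1) (h1 : x ≠ 1) :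
    orderOf x = 2 := orderOf_eq_prime h h1

/-- Elements of an abelian Sylow 2-subgroup conjugate in the group are conjugate in its normaliser. -/
theorem exists_normalizer_conj {X : Type u} [Group X] [Finite X] (P : Sylow 2 X)
    (hcomm : ∀ a ∈ (P : Subgroup X), ∀ b ∈ (P : Subgroup X), a * b = b * a) {x g : X}
    (hx : x ∈ (P : Subgroup X)) (hg : g * x * g⁻¹ ∈ (P : Subgroup X)) :
    ∃ n ∈ Subgroup.normalizer ((P : Subgroup X) : Set X), n * x * n⁻¹ = g * x * g⁻¹ := by
  haveI : Fact (Nat.Prime 2) := ⟨Nat.prime_two⟩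
  obtain ⟨n, hn, h⟩ := Transfer.exists_normalizer_conj_image P (X := {x}) (Y := {g * x * g⁻¹})
    (fun y hy => by rw [Set.image_singleton, hcomm y hy x hx, mul_inv_cancel_right])
    (fun y hy => by rw [Set.image_singleton, hcomm y hy _ hg, mul_inv_cancel_right])
    (g := g) (by rw [Set.image_singleton])
  rw [Set.image_singleton, Set.singleton_eq_singleton_iff] at h
  exact ⟨n, hn, h⟩

theorem conj_core {X : Type u} [Group X] [Finite X] (g a : X) {x : X}
    (hx : x ∈ centralizerPPrimeCore 2 a) :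
    g * x * g⁻¹ ∈ centralizerPPrimeCore 2 (g * a * g⁻¹) := by
  set C := Subgroup.centralizer ({a} : Set X) with hC
  obtain ⟨y, hy, rfl⟩ := hx
  set C' := Subgroup.centralizer ({g * a * g⁻¹} : Set X)
  have hmem : ∀ z, z ∈ C ↔ g * z * g⁻¹ ∈ C' := by
    intro z
    rw [Subgroup.mem_centralizer_singleton_iff, Subgroup.mem_centralizer_singleton_iff]
    constructor <;> intro h
    · have := congrArg (fun w => g * w * g⁻¹) h
      simpa [mul_assoc] using this
    · have := congrArg (fun w => g⁻¹ * w * g) h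
      simpa [mul_assoc] using this
  let e : C ≃* C' :=
    { toFun := fun z => ⟨g * z * g⁻¹, (hmem _).1 z.2⟩
      invFun := fun z => ⟨g⁻¹ * z * g, (hmem _).2 (by simp [mul_assoc])⟩
      left_inv := fun z => Subtype.ext (by simp [mul_assoc])
      right_inv := fun z => Subtype.ext (by simp [mul_assoc])
      map_mul' := fun z w => Subtype.ext (by simp [mul_assoc]) }
  exact ⟨e y, (Cores.pPrimeCore_map_mulEquiv e 2).le (Subgroup.mem_map_of_mem e.toMonoidHom hy), rfl⟩

theorem exists_stronglyEmbedded_of_abelian {X : Type u} [Group X] [Finite X] [IsSimpleGroup X]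
    (P : Sylow 2 X) (hP : IsMulCommutative (P : Subgroup X))
    (hPn : ¬ (P : Subgroup X).Normal) (W : Subgroup X) (hWP : W ≤ (P : Subgroup X))
    (hne : W ≠ (P : Subgroup X))
    (hmeet : ∀ T : Sylow 2 X, T ≠ P → (P : Subgroup X) ⊓ (T : Subgroup X) ≤ W)
    (hWN : Subgroup.normalizer ((P : Subgroup X) : Set X) ≤ Subgroup.normalizer (W : Set X))
    (hii : ∀ y ∈ W, orderOf y = 2 → Subgroup.centralizer ({y} : Set X) ≤
      centralizerPPrimeCore 2 y ⊔ Subgroup.normalizer (W : Set X))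
    (hbal : ∀ y ∈ W, orderOf y = 2 → ∀ D : Subgroup X, D ≤ Subgroup.centralizer {y} →
      (Nat.card D).Coprime 2 → (P : Subgroup X) ≤ Subgroup.normalizer (D : Set X) →
      D ≤ centralizerPPrimeCore 2 y) :
    ∃ H : Subgroup X, IsStronglyEmbedded H := by
  haveI : Fact (Nat.Prime 2) := ⟨Nat.prime_two⟩
  have hcomm : ∀ a ∈ (P : Subgroup X), ∀ b ∈ (P : Subgroup X), a * b = b * a := fun a ha b hb =>
    congrArg Subtype.val (hP.is_comm.comm ⟨a, ha⟩ ⟨b, hb⟩)
  have hWcomm : ∀ a ∈ W, ∀ b ∈ W, a * b = b * a := fun a ha b hb => hcomm a (hWP ha) b (hWP hb)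
  have htop : (P : Subgroup X) ≠ ⊥ := fun h => hPn (h ▸ inferInstance)
  have h2 : 2 ∣ Nat.card X := by
    obtain ⟨t, htP, ht⟩ := AbelianTwoFactor.exists_involution_mem P.isPGroup' htop
    exact ht ▸ orderOf_dvd_natCard t
  have hNne : Subgroup.normalizer ((P : Subgroup X) : Set X) ≠ ⊤ := fun h =>
    hPn (Subgroup.normalizer_eq_top_iff.1 h)
  have hZ : Subgroup.center X = ⊥ := by
    refine (Subgroup.Normal.eq_bot_or_eq_top inferInstance).resolve_right fun h => hPn ⟨?_⟩
    intro n hn g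
    have : n ∈ Subgroup.center X := h ▸ Subgroup.mem_top n
    rwa [Subgroup.mem_center_iff.1 this g, mul_inv_cancel_right]
  have hO : pPrimeCore 2 X = ⊥ := by
    refine (Cores.pPrimeCore_normal 2 X).eq_bot_or_eq_top.resolve_right fun h => ?_
    have h3 := Cores.not_dvd_card_pPrimeCore (p := 2) (G := X)
    rw [h, Subgroup.card_top] at h3
    exact h3 h2
  -- centralisers of elements outside `W`
  have hout : ∀ y ∈ (P : Subgroup X), y ∉ W →
      Subgroup.centralizer ({y} : Set X) ≤ Subgroup.normalizer ((P : Subgroup X) : Set X) := by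
    intro y hy hyW g hg
    rw [mem_normalizer_iff_smul]
    by_contra hgP
    refine hyW (hmeet _ hgP ⟨hy, (mem_smul_iff P).2 ?_⟩)
    rw [mul_assoc, ← Subgroup.mem_centralizer_singleton_iff.1 hg, inv_mul_cancel_left]
    exact hy
  by_cases hW0 : W = ⊥
  · exact ⟨_, AbelianSylowTwo.isStronglyEmbedded_normalizer P hP h2 hNne fun t ht htP =>
      hout t htP fun h => by
        rw [hW0, Subgroup.mem_bot] at h
        simp [h] at ht⟩
  have hsc : IsStronglyClosed W (P : Subgroup X) := by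
    refine ⟨hWP, fun x hx g hg => ?_⟩
    obtain ⟨n, hn, e⟩ := exists_normalizer_conj P hcomm (hWP hx) hg
    exact e ▸ (Subgroup.mem_normalizer_iff.1 (hWN hn) x).1 hx
  set B := invSub (P : Subgroup X) hcomm with hB
  set B0 := invSub W hWcomm with hB0
  have hB0B : B0 ≤ B := fun x hx => ⟨hWP hx.1, hx.2⟩
  haveI hBc : IsMulCommutative B := ⟨⟨fun a b => Subtype.ext (hcomm _ a.2.1 _ b.2.1)⟩⟩
  haveI hB0c : IsMulCommutative B0 := ⟨⟨fun a b => Subtype.ext (hWcomm _ a.2.1 _ b.2.1)⟩⟩
  -- `B0` is not cyclic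
  have hB0cyc : ¬ IsCyclic B0 := by
    intro hc
    obtain ⟨z, hzW, hz⟩ :=
      AbelianTwoFactor.exists_involution_mem (P.isPGroup'.to_le hWP) hW0
    have hcard : Nat.card B0 ∣ 2 := by
      rw [← IsCyclic.exponent_eq_card]
      exact Monoid.exponent_dvd_of_forall_pow_eq_one fun a => Subtype.ext a.2.2
    have hz0 : z ∈ B0 := ⟨hzW, hz ▸ pow_orderOf_eq_one z⟩
    have hz1 : z ≠ 1 := fun h => by simp [h] at hz
    have heq : ∀ x ∈ B0, x ≠ 1 → x = z := by
      intro x hx hx1
      have hle : B0 ≤ Subgroup.zpowers z := by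
        refine (Subgroup.eq_of_le_of_card_ge (Subgroup.zpowers_le.2 hz0) ?_).ge
        rw [Nat.card_zpowers, hz]
        exact Nat.le_of_dvd two_pos hcard
      obtain ⟨k, rfl⟩ := Subgroup.mem_zpowers_iff.1 (hle hx)
      rcases Int.emod_two_eq k with h | h <;>
        rw [← zpow_mod_orderOf, hz, Nat.cast_ofNat, h] at hx1 ⊢
      · simp at hx1
      · simp
    have hiso : IsIsolatedInvolution z := ZStar.isolated_of_sylow P hz (hWP hzW) fun g hg =>
      heq _ ⟨hsc.2 z hzW g hg, by rw [conj_pow, show z ^ 2 = 1 from hz ▸ pow_orderOf_eq_one z]; simp⟩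
        (by simpa using hz1)
    have := ZStar.isolated_mem_center ZStar.uniqueInvolution hiso hO
    rw [hZ, Subgroup.mem_bot] at this
    exact hz1 this
  have hB8 : 2 ^ 3 ≤ Nat.card B := by
    by_contra hlt
    rw [not_le] at hlt
    have hB2 : IsPGroup 2 B := P.isPGroup'.to_le fun x hx => hx.1
    have hB4 : Nat.card B ≤ 4 := by
      obtain ⟨k, hk⟩ := IsPGroup.iff_card.1 hB2
      rw [hk] at hlt ⊢
      have := (Nat.pow_lt_pow_iff_right (by norm_num : 1 < 2)).1 hlt
      exact le_trans (Nat.pow_le_pow_right (by norm_num) (by omega : k ≤ 2)) (by norm_num)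
    have hB04 : 4 ≤ Nat.card B0 := by
      obtain ⟨k, hk⟩ := IsPGroup.iff_card.1 (hB2.to_le hB0B)
      rcases k with _ | _ | k
      · rw [pow_zero] at hk
        haveI := (Nat.card_eq_one_iff_unique.1 hk).1
        exact absurd isCyclic_of_subsingleton hB0cyc
      · exact absurd (isCyclic_of_prime_card (p := 2) (by simpa using hk)) hB0cyc
      · rw [hk]
        calc 4 = 2 ^ 2 := rfl
          _ ≤ _ := Nat.pow_le_pow_right (by norm_num) (by omega)
    have hBB0 : B0 = B := Subgroup.eq_of_le_of_card_ge hB0B (hB4.trans hB04)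
    have hr : PRankLE 2 2 (P : Subgroup X) := by
      intro A _ hA
      rw [← Subgroup.card_map_of_injective (K := A) (P : Subgroup X).subtype_injective]
      refine le_trans (Subgroup.card_le_of_le (K := B) ?_) hB4
      rintro _ ⟨a, ha, rfl⟩
      exact ⟨a.2, by rw [← map_pow, hA a ha, map_one]⟩
    rcases AbelianSylowTwo.rankLE_two_cases (G := X) hO P hP hr with h | h | ⟨m, hm, ⟨e⟩⟩
    · exact hPn (h ▸ inferInstance)
    · refine hne (le_antisymm hWP fun x hx => ?_)
      have hx2 : x ^ 2 = 1 := by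
        have h4 := congrArg Subtype.val
          (Monoid.pow_exponent_eq_one (⟨x, hx⟩ : (P : Subgroup X)))
        rw [h.exponent_two] at h4
        exact h4
      exact (hBB0.ge (⟨hx, hx2⟩ : x ∈ B)).1
    · refine hPn (S0949.result P m hm e fun N hN hodd => ?_).1
      exact le_bot_iff.1 (hO ▸ Cores.le_pPrimeCore hN (Nat.coprime_two_right.2 hodd))
  -- the functor
  set θ : X → Subgroup X := fun a => centralizerPPrimeCore 2 a with hθ
  have hcop : ∀ a : X, (Nat.card (θ a)).Coprime 2 := fun a =>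
    (Nat.prime_two.coprime_iff_not_dvd.2 (Signalizer.not_dvd_card_core a)).symm
  have hPC : ∀ a ∈ (P : Subgroup X), (P : Subgroup X) ≤ Subgroup.centralizer ({a} : Set X) :=
    fun a ha b hb => Subgroup.mem_centralizer_singleton_iff.2 (hcomm b hb a ha)
  have hPθ : ∀ a ∈ (P : Subgroup X), (P : Subgroup X) ≤ Subgroup.normalizer (θ a : Set X) :=
    fun a ha => (hPC a ha).trans (Signalizer.centralizer_le_normalizer_core a)
  have hbalance : ∀ a ∈ B, a ≠ 1 → ∀ b ∈ B, b ≠ 1 →
      θ a ⊓ Subgroup.centralizer {b} ≤ θ b := by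
    intro a ha _ b hb hb1
    set D := θ a ⊓ Subgroup.centralizer ({b} : Set X) with hD
    have hDc : (Nat.card D).Coprime 2 :=
      (hcop a).coprime_dvd_left (Subgroup.card_dvd_of_le inf_le_left)
    have hPD : (P : Subgroup X) ≤ Subgroup.normalizer (D : Set X) := fun g hg =>
      Coprime.mem_normalizer_of_forall fun x hx =>
        ⟨(Subgroup.mem_normalizer_iff.1 (hPθ a ha.1 hg) x).1 hx.1,
          Subgroup.mul_mem _ (Subgroup.mul_mem _ (hPC b hb.1 hg) hx.2) (Subgroup.inv_mem _ (hPC b hb.1 hg))⟩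
    by_cases hbW : b ∈ W
    · exact hbal b hbW (orderOf_eq_two hb.2 hb1) D inf_le_right hDc hPD
    refine le_core_of_le_normalizer P (hPC b hb.1) (hout b hb.1 hbW) inf_le_right hDc fun x hx => ?_
    obtain ⟨n, hn⟩ := IsPGroup.iff_card.1 P.isPGroup'
    exact Coprime.mem_centralizer_of_normalizer hPD
      (by rw [hn]; exact hDc.symm.pow_left n) hx (hout b hb.1 hbW hx.2)
  obtain ⟨hWodd, hWfix⟩ := S0217.result B (fun a ha b hb => hcomm a ha.1 b hb.1) (fun a ha => ha.2)
    hB8 θ (fun a _ _ => Signalizer.core_le_centralizer a)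
    (fun a _ _ => Signalizer.not_dvd_card_core a)
    (fun a ha _ b hb x hx => (Subgroup.mem_normalizer_iff.1 (hPθ a ha.1 hb.1) x).1 hx)
    (fun a _ _ => OddOrderTheorem.solvable (Nat.coprime_two_right.1 (hcop a)))
    hbalance
  set W0 : Subgroup X := ⨆ a : {a : X // a ∈ B ∧ a ≠ 1}, θ a with hW0d
  set W1 : Subgroup X := ⨆ a : {a : X // a ∈ B0 ∧ a ≠ 1}, θ a with hW1d
  have hPW0 : (P : Subgroup X) ≤ Subgroup.normalizer (W0 : Set X) := fun g hg =>
    Coprime.mem_normalizer_of_forall fun x hx => by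
      have hle : W0 ≤ W0.comap (MulAut.conj g).toMonoidHom := iSup_le fun a y hy =>
        le_iSup (fun c : {a : X // a ∈ B ∧ a ≠ 1} => θ c) a
          ((Subgroup.mem_normalizer_iff.1 (hPθ a a.2.1.1 hg) y).1 hy)
      exact hle hx
  have hW01 : W0 ≤ W1 := by
    have hBP : B0 ≤ (P : Subgroup X) := fun x hx => hWP hx.1
    refine Coprime.le_of_noncyclic hB0cyc (hBP.trans hPW0) ?_ fun a ha ha1 => ?_
    · obtain ⟨n, hn⟩ := IsPGroup.iff_card.1 (P.isPGroup'.to_le hBP)
      rw [hn]
      exact (Nat.prime_two.coprime_iff_not_dvd.2 hWodd).pow_left n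
    · rw [hWfix a (hB0B ha) ha1]
      exact le_iSup (fun c : {a : X // a ∈ B0 ∧ a ≠ 1} => θ c) ⟨a, ha, ha1⟩
  have hW10 : W1 ≤ W0 := iSup_le fun a =>
    le_iSup (fun c : {a : X // a ∈ B ∧ a ≠ 1} => θ c) ⟨a, hB0B a.2.1, a.2.2⟩
  have heqW : W0 = W1 := le_antisymm hW01 hW10
  have hNW : Subgroup.normalizer (W : Set X) ≤ Subgroup.normalizer (W0 : Set X) := fun g hg =>
    Coprime.mem_normalizer_of_forall fun x hx => by
      rw [heqW] at hx ⊢
      have hle : W1 ≤ W1.comap (MulAut.conj g).toMonoidHom := iSup_le fun a y hy =>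
        le_iSup (fun c : {a : X // a ∈ B0 ∧ a ≠ 1} => θ c)
          ⟨g * a * g⁻¹, ⟨(Subgroup.mem_normalizer_iff.1 hg a).1 a.2.1.1,
            by rw [conj_pow, a.2.1.2]; simp⟩, by simpa using a.2.2⟩ (conj_core g a hy)
      exact hle hx
  -- a proper subgroup with all the centralisers
  obtain ⟨M, hM, hMC⟩ : ∃ M : Subgroup X, M ≠ ⊤ ∧
      ∀ t ∈ W, orderOf t = 2 → Subgroup.centralizer ({t} : Set X) ≤ M := by
    have hθW0 : ∀ t ∈ W, orderOf t = 2 → θ t ≤ W0 := fun t ht ht2 =>
      le_iSup (fun c : {a : X // a ∈ B ∧ a ≠ 1} => θ c)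
        ⟨t, ⟨hWP ht, ht2 ▸ pow_orderOf_eq_one t⟩, fun h => by simp [h] at ht2⟩
    by_cases h0 : W0 = ⊥
    · refine ⟨Subgroup.normalizer (W : Set X), fun h => ?_, fun t ht ht2 => ?_⟩
      · rcases (Subgroup.normalizer_eq_top_iff.1 h).eq_bot_or_eq_top with h' | h'
        · exact hW0 h'
        · exact hne (le_antisymm hWP (h' ▸ le_top))
      · refine (hii t ht ht2).trans (sup_le ?_ le_rfl)
        exact ((hθW0 t ht ht2).trans h0.le).trans bot_le
    · refine ⟨Subgroup.normalizer (W0 : Set X), fun h => ?_, fun t ht ht2 =>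
        (hii t ht ht2).trans (sup_le ((hθW0 t ht ht2).trans Subgroup.le_normalizer) hNW)⟩
      rcases (Subgroup.normalizer_eq_top_iff.1 h).eq_bot_or_eq_top with h' | h'
      · exact h0 h'
      · exact hWodd (by rw [h', Subgroup.card_top]; exact h2)
  refine S1174.result P W hW0 hsc fun h => hM (eq_top_iff.2 (h ▸ iSup_le fun t => ?_))
  exact hMC t.1 t.2.1 t.2.2

end Cfsg.Agent.CISylow
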