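import Cfsg.Agent.Lib.CISylow.Regular
import Cfsg.Agent.Lib.CISylow.Local
import Cfsg.Agent.Lib.Components.Quasisimple
import Cfsg.Agent.Lib.Components.Basic
import Cfsg.Agent.Lib.OddOrderTheorem.Basic
import Cfsg.Agent.Lib.ZStar.Apply
import Cfsg.Agent.Lib.ZStar.Unique

/-!
# A component modulo its centre (helper21)

* `Bar L`, `toBar L`, `barAut L`;
* Sylow 2-subgroups of `L` and of `Bar L` correspond when `Z(L)` is a 2-group;
* `commute_of_fix_odd` : an odd element fixing a regular Sylow 2-subgroup centralises `L`;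
* `exists_mul_commute` : a 2-element fixing an abelian Sylow 2-subgroup is inner on `L`.
-/

set_option autoImplicit false

namespace Cfsg.Agent.CISylow

open Cfsg
open scoped Pointwise

universe u

variable {G : Type u} [Group G]

/-- `L / Z(L)`. -/
abbrev Bar (L : Subgroup G) : Type u := ↥L ⧸ Subgroup.center ↥L

/-- The projection on `L / Z(L)`. -/
def toBar (L : Subgroup G) : ↥L →* Bar L := QuotientGroup.mk' _

theorem toBar_surjective (L : Subgroup G) : Function.Surjective (toBar L) :=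
  QuotientGroup.mk'_surjective _

theorem ker_toBar (L : Subgroup G) : (toBar L).ker = Subgroup.center ↥L :=
  QuotientGroup.ker_mk' _

theorem toBar_eq_iff {L : Subgroup G} {a b : ↥L} :
    toBar L a = toBar L b ↔ a * b⁻¹ ∈ Subgroup.center ↥L := by
  have h : a * b⁻¹ ∈ (toBar L).ker ↔ toBar L a = toBar L b := by
    rw [MonoidHom.mem_ker, map_mul, map_inv, mul_inv_eq_one]
  rw [← h, ker_toBar]

theorem mem_center_iff' {L : Subgroup G} {z : ↥L} :
    z ∈ Subgroup.center ↥L ↔ ∀ l ∈ L, l * (z : G) = (z : G) * l := by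
  rw [Subgroup.mem_center_iff]
  exact ⟨fun h l hl => congrArg Subtype.val (h ⟨l, hl⟩), fun h l => Subtype.ext (h l l.2)⟩

/-- Conjugation by the normaliser, on `L / Z(L)`. -/
def barAut (L : Subgroup G) : ↥(Subgroup.normalizer (L : Set G)) →* MulAut (Bar L) where
  toFun g := QuotientGroup.congr (Subgroup.center ↥L) (Subgroup.center ↥L) (L.normalizerMonoidHom g)
    (Subgroup.characteristic_iff_map_eq.1 inferInstance (L.normalizerMonoidHom g))
  map_one' := by
    refine MulEquiv.ext fun x => ?_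
    obtain ⟨l, rfl⟩ := toBar_surjective L x
    show toBar L (L.normalizerMonoidHom 1 l) = toBar L l
    rw [map_one]
    rfl
  map_mul' a b := by
    refine MulEquiv.ext fun x => ?_
    obtain ⟨l, rfl⟩ := toBar_surjective L x
    show toBar L (L.normalizerMonoidHom (a * b) l) =
      toBar L (L.normalizerMonoidHom a (L.normalizerMonoidHom b l))
    rw [map_mul]
    rfl

theorem barAut_apply {L : Subgroup G} (g : ↥(Subgroup.normalizer (L : Set G))) (l : ↥L) :
    barAut L g (toBar L l) =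
      toBar L ⟨g * l * (g : G)⁻¹, (Subgroup.mem_normalizer_iff.1 g.2 _).1 l.2⟩ := rfl

/-- In a perfect group an automorphism trivial modulo the centre is trivial. -/
theorem commute_of_comm_central {L : Subgroup G} (hperf : ⁅L, L⁆ = L) {g : G}
    (hg : ∀ l ∈ L, g * l * g⁻¹ * l⁻¹ ∈ L ∧ ∀ y ∈ L, y * (g * l * g⁻¹ * l⁻¹) = g * l * g⁻¹ * l⁻¹ * y) :
    ∀ l ∈ L, g * l = l * g := by
  let φ : ↥L →* ↥(Subgroup.center ↥L) :=
    MonoidHom.mk' (fun l => ⟨⟨g * l * g⁻¹ * (l : G)⁻¹, (hg l l.2).1⟩, mem_center_iff'.2 (hg l l.2).2⟩)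
      fun a b => Subtype.ext (Subtype.ext (by
        show g * ((a : G) * b) * g⁻¹ * ((a : G) * b)⁻¹ =
          g * a * g⁻¹ * (a : G)⁻¹ * (g * b * g⁻¹ * (b : G)⁻¹)
        have h := (hg b b.2).2 (a : G)⁻¹ (L.inv_mem a.2)
        rw [mul_assoc (g * (a : G) * g⁻¹) (a : G)⁻¹, h]
        group))
  have hle : commutator ↥L ≤ φ.ker := by
    rw [commutator_def, Subgroup.commutator_le]
    intro a _ b _
    rw [MonoidHom.mem_ker, map_commutatorElement, commutatorElement_eq_one_iff_mul_comm]
    exact Subtype.ext (Subgroup.mem_center_iff.1 (φ b).2 _)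
  intro l hl
  have hmem : (⟨l, hl⟩ : ↥L) ∈ commutator ↥L := by
    have h := hl
    rw [← hperf, ← Subgroup.map_subtype_commutator] at h
    obtain ⟨y, hy, e⟩ := h
    have e' : y = ⟨l, hl⟩ := Subtype.ext e
    exact e' ▸ hy
  have h1 : g * l * g⁻¹ * l⁻¹ = 1 :=
    congrArg (fun z : ↥(Subgroup.center ↥L) => ((z : ↥L) : G)) (MonoidHom.mem_ker.1 (hle hmem))
  rwa [mul_inv_eq_one, mul_inv_eq_iff_eq_mul] at h1

theorem commute_of_barAut_eq_one {L : Subgroup G} (hperf : ⁅L, L⁆ = L)
    (g : ↥(Subgroup.normalizer (L : Set G))) (h : barAut L g = 1) :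
    ∀ l ∈ L, (g : G) * l = l * g := by
  refine commute_of_comm_central hperf fun l hl => ?_
  have h1 := barAut_apply g ⟨l, hl⟩
  rw [h, MulAut.one_apply, eq_comm, toBar_eq_iff] at h1
  exact ⟨L.mul_mem ((Subgroup.mem_normalizer_iff.1 g.2 l).1 hl) (L.inv_mem hl), mem_center_iff'.1 h1⟩

variable [Finite G]

theorem mem_iff_toBar_mem {L : Subgroup G} (hZ : IsPGroup 2 ↥(Subgroup.center ↥L))
    (T : Sylow 2 ↥L) {x : ↥L} :
    toBar L x ∈ (T : Subgroup ↥L).map (toBar L) ↔ x ∈ (T : Subgroup ↥L) := by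
  refine ⟨?_, fun h => Subgroup.mem_map_of_mem _ h⟩
  rintro ⟨y, hy, e⟩
  have h1 := le_sylow_of_normal hZ T (toBar_eq_iff.1 e.symm)
  simpa using mul_mem h1 hy

theorem map_sylow_injective {L : Subgroup G} (hZ : IsPGroup 2 ↥(Subgroup.center ↥L))
    {T T' : Sylow 2 ↥L} (h : (T : Subgroup ↥L).map (toBar L) = (T' : Subgroup ↥L).map (toBar L)) :
    T = T' :=
  Sylow.ext (le_antisymm (fun _ hx => (mem_iff_toBar_mem hZ T').1 (h.le (Subgroup.mem_map_of_mem _ hx)))
    fun _ hx => (mem_iff_toBar_mem hZ T).1 (h.ge (Subgroup.mem_map_of_mem _ hx)))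

structure BarFacts (X : Type u) [Group X] : Prop where
  simple : IsSimpleGroup X
  noncomm : ¬ IsMulCommutative X
  center : Subgroup.center X = ⊥
  core : pPrimeCore 2 X = ⊥
  even : 2 ∣ Nat.card X
  notNormal : ∀ P : Sylow 2 X, ¬ (P : Subgroup X).Normal

theorem barFacts_of_simple {X : Type u} [Group X] [Finite X] [hs : IsSimpleGroup X]
    (hnc : ¬ Group.IsSolvable X) : BarFacts X := by
  haveI : Fact (Nat.Prime 2) := ⟨Nat.prime_two⟩
  have hncomm : ¬ IsMulCommutative X := fun h => by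
    exact hnc (Group.isSolvable_of_comm h.is_comm.comm)
  have heven : 2 ∣ Nat.card X := by
    by_contra h
    exact hnc (OddOrderTheorem.solvable (Nat.odd_iff.2 (by omega)))
  refine ⟨hs, hncomm, ?_, ?_, heven, fun P hP => ?_⟩
  · refine (Subgroup.Normal.eq_bot_or_eq_top inferInstance).resolve_right fun h => hncomm ?_
    exact ⟨⟨fun a b => Subgroup.mem_center_iff.1 (h ▸ Subgroup.mem_top b) a⟩⟩
  · refine (Cores.pPrimeCore_normal 2 X).eq_bot_or_eq_top.resolve_right fun h => ?_
    have h3 := Cores.not_dvd_card_pPrimeCore (p := 2) (G := X)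
    rw [h, Subgroup.card_top] at h3
    exact h3 heven
  · rcases hP.eq_bot_or_eq_top with h | h
    · have := P.dvd_card_of_dvd_card heven
      rw [h, Subgroup.card_bot] at this
      norm_num at this
    · haveI : Group.IsNilpotent (⊤ : Subgroup X) := h ▸ P.isPGroup'.isNilpotent
      haveI : Group.IsSolvable (⊤ : Subgroup X) := inferInstance
      exact hnc (Group.isSolvable_of_surjective (f := (Subgroup.topEquiv (G := X)).toMonoidHom)
        (Subgroup.topEquiv (G := X)).surjective)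

theorem barFacts {L : Subgroup G} (hL : IsComponent L) : BarFacts (Bar L) := by
  haveI := hL.2.2
  refine barFacts_of_simple fun hs => Components.IsQuasisimple.not_isSolvable hL.2 ?_
  haveI : Group.IsSolvable ↥(Subgroup.center ↥L) :=
    Group.isSolvable_of_comm fun a b => Subtype.ext (Subgroup.mem_center_iff.1 b.2 a)
  haveI := hs
  exact Group.isSolvable_of_ker_le_range (Subgroup.center ↥L).subtype (toBar L)
    (by rw [ker_toBar, Subgroup.range_subtype])

theorem smul_smul_mulAut {X : Type*} [Group X] (α : MulAut X) (x : X) (T : Sylow 2 X) :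
    α • x • T = α x • α • T := by
  refine Sylow.ext ?_
  ext y
  simp only [Sylow.coe_subgroup_smul, Sylow.pointwise_smul_def,
    Subgroup.mem_pointwise_smul_iff_inv_smul_mem, MulAut.smul_def, MulAut.conj_inv_apply,
    map_mul, map_inv, MulAut.inv_apply_self]

/-- An automorphism of odd order fixing a regular Sylow 2-subgroup pointwise is trivial. -/
theorem aut_eq_one {X : Type u} [Group X] [Finite X] (hX : BarFacts X) {P : Sylow 2 X}
    (hreg : Regular P) {α : MulAut X} {m : ℕ} (hm : m.Coprime 2) (hα : α ^ m = 1)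
    (hfix : ∀ x ∈ (P : Subgroup X), α x = x) : α = 1 := by
  haveI := hX.simple
  have hfix' : ∀ k : ℕ, ∀ x ∈ (P : Subgroup X), (α ^ k) x = x := by
    intro k
    induction k with
    | zero => intro x _; rfl
    | succ k ih => intro x hx; rw [pow_succ, MulAut.mul_apply, hfix x hx, ih x hx]
  have hP : α • P = P := by
    refine Sylow.ext (le_antisymm ?_ ?_) <;> rw [Sylow.pointwise_smul_def]
    · rintro _ ⟨x, hx, rfl⟩
      show α x ∈ (P : Subgroup X)
      rwa [hfix x hx]
    · exact fun x hx => ⟨x, hx, hfix x hx⟩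
  have hT : ∀ T : Sylow 2 X, T ≠ P → α • T = T := by
    intro T hT
    have hT' : α • T ≠ P := fun e => hT (smul_left_cancel α (e.trans hP.symm))
    obtain ⟨p, hp, he⟩ := hreg.1 T (α • T) hT hT'
    have hk : ∀ k : ℕ, (α ^ k) • T = p ^ k • T := by
      intro k
      induction k with
      | zero => rw [pow_zero, pow_zero, one_smul, one_smul]
      | succ k ih =>
        rw [pow_succ, mul_smul, ← he, smul_smul_mulAut, hfix' k p hp, ih, ← mul_smul, ← pow_succ']
    have h1 : p ^ m = 1 := hreg.2 T hT _ (pow_mem hp m) (by rw [← hk, hα, one_smul])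
    rw [← he, eq_one_of_odd_of_two hm h1 (two_pow_of_mem_sylow hp), one_smul]
  have hall : ∀ T : Sylow 2 X, α • T = T := fun T => by
    by_cases h : T = P
    · rw [h, hP]
    · exact hT T h
  refine MulEquiv.ext fun x => ?_
  set K := (MulAction.toPermHom X (Sylow 2 X)).ker
  have hKbot : K = ⊥ := by
    refine (MonoidHom.normal_ker _).eq_bot_or_eq_top.resolve_right fun h => hX.notNormal P ?_
    rw [← Subgroup.normalizer_eq_top_iff, eq_top_iff]
    intro g _
    rw [mem_normalizer_iff_smul]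
    have hg : g ∈ K := by rw [show K = ⊤ from h]; exact Subgroup.mem_top g
    exact congrArg (fun σ : Equiv.Perm (Sylow 2 X) => σ P) (MonoidHom.mem_ker.1 hg)
  have hmem : x⁻¹ * α x ∈ K := by
    rw [MonoidHom.mem_ker]
    refine Equiv.ext fun T => ?_
    show (x⁻¹ * α x) • T = T
    have h := smul_smul_mulAut α x T
    rw [hall T, hall (x • T)] at h
    rw [mul_smul, ← h, inv_smul_smul]
  rw [hKbot, Subgroup.mem_bot, inv_mul_eq_one] at hmem
  exact hmem.symm

/-- An odd element normalising a component and centralising one of its Sylow 2-subgroups whose image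
is regular centralises it. -/
theorem commute_of_fix_odd {L : Subgroup G} (hL : IsComponent L) (Q : Sylow 2 ↥L)
    (P : Sylow 2 (Bar L)) (hP : (P : Subgroup (Bar L)) = (Q : Subgroup ↥L).map (toBar L))
    (hreg : Regular P) {g : G} (hg : g ∈ Subgroup.normalizer (L : Set G)) {m : ℕ} (hm : m.Coprime 2)
    (hgm : g ^ m = 1) (hfix : ∀ q ∈ (Q : Subgroup ↥L), g * (q : G) = (q : G) * g) :
    ∀ l ∈ L, g * l = l * g := by
  refine commute_of_barAut_eq_one (Components.IsComponent.perfect hL) ⟨g, hg⟩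
    (aut_eq_one (barFacts hL) hreg hm ?_ ?_)
  · rw [← map_pow, show (⟨g, hg⟩ : ↥(Subgroup.normalizer (L : Set G))) ^ m = 1 from Subtype.ext hgm,
      map_one]
  · intro x hx
    rw [hP] at hx
    obtain ⟨q, hq, rfl⟩ := hx
    rw [barAut_apply]
    exact congrArg (toBar L) (Subtype.ext (by
      show g * (q : G) * g⁻¹ = q
      rw [hfix q hq, mul_inv_cancel_right]))

/-- A 2-element fixing a Sylow 2-subgroup with abelian image modulo the centre is inner. -/
theorem exists_mul_commute {L : Subgroup G} (hL : IsComponent L)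
    (hZ : IsPGroup 2 ↥(Subgroup.center ↥L)) (Q : Sylow 2 ↥L)
    (hQ : ∀ a ∈ (Q : Subgroup ↥L), ∀ b ∈ (Q : Subgroup ↥L), toBar L (a * b) = toBar L (b * a))
    {s : G} (hs : s ∈ Subgroup.normalizer (L : Set G)) (hs2 : ∃ n, orderOf s = 2 ^ n)
    (hfix : ∀ q ∈ (Q : Subgroup ↥L), s * (q : G) = (q : G) * s) :
    ∃ p ∈ (Q : Subgroup ↥L), ∀ l ∈ L, (p : G)⁻¹ * s * l = l * ((p : G)⁻¹ * s) := by
  haveI : Fact (Nat.Prime 2) := ⟨Nat.prime_two⟩
  have hX := barFacts hL
  set P := Q.mapSurjective (toBar_surjective L)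
  haveI : IsMulCommutative (P : Subgroup (Bar L)) := by
    refine ⟨⟨?_⟩⟩
    rintro ⟨_, a, ha, rfl⟩ ⟨_, b, hb, rfl⟩
    exact Subtype.ext (by simpa using hQ a ha b hb)
  set α := barAut L ⟨s, hs⟩
  have hα2 : ∃ j : ℕ, orderOf α = 2 ^ j := by
    obtain ⟨n, hn⟩ := hs2
    obtain ⟨j, -, hj⟩ := (Nat.dvd_prime_pow Nat.prime_two).1
      ((orderOf_map_dvd (barAut L) ⟨s, hs⟩).trans (by rw [Subgroup.orderOf_mk, hn] : _ ∣ 2 ^ n))
    exact ⟨j, hj⟩
  have hfixP : ∀ x ∈ (P : Subgroup (Bar L)), α x = x := by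
    rintro _ ⟨q, hq, rfl⟩
    rw [barAut_apply]
    exact congrArg (toBar L) (Subtype.ext (by
      show s * (q : G) * s⁻¹ = q
      rw [hfix q hq, mul_inv_cancel_right]))
  obtain ⟨b, hb⟩ := ZStar.aut_inner_of_abelian_sylow ZStar.uniqueInvolution hX.center hX.core P α
    hα2 hfixP
  have hinj : Function.Injective (MulAut.conj : Bar L →* MulAut (Bar L)) := by
    rw [injective_iff_map_eq_one]
    intro g hg
    have : g ∈ Subgroup.center (Bar L) := Subgroup.mem_center_iff.2 fun x => by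
      have h1 : g * x * g⁻¹ = x := by simpa using DFunLike.congr_fun hg x
      exact (mul_inv_eq_iff_eq_mul.1 h1).symm
    rwa [hX.center, Subgroup.mem_bot] at this
  have hbP : b ∈ (P : Subgroup (Bar L)) := by
    have hcomm : ∀ x ∈ (P : Subgroup (Bar L)), b * x = x * b := fun x hx => by
      have h1 := DFunLike.congr_fun hb x
      rw [hfixP x hx] at h1
      exact mul_inv_eq_iff_eq_mul.1 h1
    have hbp : IsPGroup 2 (Subgroup.zpowers b) := by
      obtain ⟨j, hj⟩ := hα2
      exact IsPGroup.of_card (n := j) (by rw [Nat.card_zpowers, ← orderOf_injective _ hinj b, hb, hj])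
    have hsup := P.isPGroup'.to_sup_of_normal_left' hbp (Subgroup.zpowers_le.2
      (Coprime.mem_normalizer_of_forall fun x hx => by rwa [hcomm x hx, mul_inv_cancel_right]))
    exact (P.is_maximal' hsup le_sup_left).le (Subgroup.mem_sup_right (Subgroup.mem_zpowers b))
  obtain ⟨p, hp, rfl⟩ := hbP
  refine ⟨p, hp, ?_⟩
  have hpN : (p : G) ∈ Subgroup.normalizer (L : Set G) := Subgroup.le_normalizer p.2
  refine commute_of_barAut_eq_one (Components.IsComponent.perfect hL)
    ⟨(p : G)⁻¹ * s, mul_mem (inv_mem hpN) hs⟩ ?_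
  have hpaut : barAut L ⟨p, hpN⟩ = MulAut.conj (toBar L p) := by
    refine MulEquiv.ext fun x => ?_
    obtain ⟨l, rfl⟩ := toBar_surjective L x
    rw [barAut_apply, MulAut.conj_apply, ← map_inv, ← map_mul, ← map_mul]
    rfl
  rw [show (⟨(p : G)⁻¹ * s, mul_mem (inv_mem hpN) hs⟩ : ↥(Subgroup.normalizer (L : Set G))) =
    (⟨p, hpN⟩ : ↥(Subgroup.normalizer (L : Set G)))⁻¹ * ⟨s, hs⟩ from rfl, map_mul, map_inv, hpaut, hb]
  exact inv_mul_cancel _

end Cfsg.Agent.CISylow
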