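import Cfsg.Agent.S3183
import Cfsg.Agent.Lib.Cores.Basic
import Cfsg.Agent.Lib.Cores.Subnormal
import Cfsg.Agent.Lib.Coprime.Basic

/-!
# Central Sylow 2-intersections: elementary facts (helper21)

`CI G`: two distinct Sylow 2-subgroups meet in elements central in both.
The property passes to subgroups and to quotients by odd normal subgroups and by normal
2-subgroups; a noncentral element of a Sylow 2-subgroup `S` lies in no other one, so
its centralizer normalises `S`.
-/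

set_option autoImplicit false

namespace Cfsg.Agent.CISylow

open scoped Pointwise

/-- Two distinct Sylow 2-subgroups meet in elements central in each. -/
def CI (G : Type*) [Group G] : Prop :=
  ∀ S T : Sylow 2 G, S ≠ T → ∀ x ∈ (S : Subgroup G), x ∈ (T : Subgroup G) →
    ∀ s ∈ (S : Subgroup G), s * x = x * s

variable {G : Type*} [Group G]

/-- The centre of a subgroup, as a subgroup of the ambient group. -/
def ctr (S : Subgroup G) : Subgroup G := S ⊓ Subgroup.centralizer (S : Set G)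

theorem mem_ctr {S : Subgroup G} {x : G} : x ∈ ctr S ↔ x ∈ S ∧ ∀ s ∈ S, s * x = x * s :=
  Iff.rfl

theorem ctr_le (S : Subgroup G) : ctr S ≤ S := inf_le_left

theorem CI.mem_ctr (h : CI G) {S T : Sylow 2 G} (hne : S ≠ T) {x : G}
    (hS : x ∈ (S : Subgroup G)) (hT : x ∈ (T : Subgroup G)) : x ∈ ctr (S : Subgroup G) :=
  ⟨hS, h S T hne x hS hT⟩

theorem CI.of_hyp [Finite G] (hCI : ∀ S T : Sylow 2 G, S ≠ T → ∃ U : Sylow 2 G,
      (S : Subgroup G) ⊓ (T : Subgroup G) ≤
        (Subgroup.center ↥(U : Subgroup G)).map (U : Subgroup G).subtype) : CI G :=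
  fun S T hne x hxS hxT =>
    ((S3183.mem_center_map_iff _ x).1 (S3183.inf_le_center hCI S T hne ⟨hxS, hxT⟩)).2

theorem mem_smul_iff {g x : G} (S : Sylow 2 G) :
    x ∈ ((g • S : Sylow 2 G) : Subgroup G) ↔ g⁻¹ * x * g ∈ (S : Subgroup G) := by
  rw [Sylow.coe_subgroup_smul]
  exact Coprime.mem_conj

theorem conj_mem_smul {g x : G} {S : Sylow 2 G} (hx : x ∈ (S : Subgroup G)) :
    g * x * g⁻¹ ∈ ((g • S : Sylow 2 G) : Subgroup G) := by
  rw [mem_smul_iff]
  simpa [mul_assoc] using hx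

theorem mem_normalizer_iff_smul {g : G} (S : Sylow 2 G) :
    g ∈ Subgroup.normalizer ((S : Subgroup G) : Set G) ↔ g • S = S :=
  (Sylow.smul_eq_iff_mem_normalizer).symm

/-- A noncentral element of `S` conjugated into `S`: the conjugating element normalises `S`. -/
theorem CI.mem_normalizer (h : CI G) {S : Sylow 2 G} {y g : G} (hy : y ∈ (S : Subgroup G))
    (hyz : y ∉ ctr (S : Subgroup G)) (hgy : g⁻¹ * y * g ∈ (S : Subgroup G)) :
    g ∈ Subgroup.normalizer ((S : Subgroup G) : Set G) := by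
  rw [mem_normalizer_iff_smul]
  by_contra hne
  exact hyz (h.mem_ctr (fun e => hne e.symm) hy ((mem_smul_iff S).2 hgy))

theorem CI.centralizer_le (h : CI G) {S : Sylow 2 G} {y : G} (hy : y ∈ (S : Subgroup G))
    (hyz : y ∉ ctr (S : Subgroup G)) :
    Subgroup.centralizer ({y} : Set G) ≤ Subgroup.normalizer ((S : Subgroup G) : Set G) := by
  intro g hg
  have e : y * g = g * y := Subgroup.mem_centralizer_singleton_iff.1 hg |>.symm
  refine h.mem_normalizer hy hyz ?_
  rwa [mul_assoc, e, inv_mul_cancel_left]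

/-- Conjugates in `S` of central elements of `S` are central in `S`. -/
theorem CI.conj_mem_ctr (h : CI G) {S : Sylow 2 G} {z g : G} (hz : z ∈ ctr (S : Subgroup G))
    (hgz : g * z * g⁻¹ ∈ (S : Subgroup G)) : g * z * g⁻¹ ∈ ctr (S : Subgroup G) := by
  by_cases he : g • S = S
  · refine ⟨hgz, fun s hs => ?_⟩
    have hs' : g⁻¹ * s * g ∈ (S : Subgroup G) := (mem_smul_iff S).1 (by rwa [he])
    have e := hz.2 _ hs'
    calc s * (g * z * g⁻¹) = g * (g⁻¹ * s * g * z) * g⁻¹ := by group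
      _ = g * (z * (g⁻¹ * s * g)) * g⁻¹ := by rw [e]
      _ = g * z * g⁻¹ * s := by group
  · exact h.mem_ctr (fun e => he e.symm) hgz (conj_mem_smul hz.1)

theorem CI.stronglyClosed_ctr (h : CI G) (S : Sylow 2 G) :
    Cfsg.IsStronglyClosed (ctr (S : Subgroup G)) (S : Subgroup G) :=
  ⟨ctr_le _, fun _ hz _ hgz => h.conj_mem_ctr hz hgz⟩

/-- An element of an odd normal subgroup commuting with a noncentral element of `S`
centralises `S`. -/
theorem CI.commute_of_odd [Finite G] (h : CI G) {O : Subgroup G} [O.Normal]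
    (hO : (Nat.card O).Coprime 2) {S : Sylow 2 G} {y o : G} (hy : y ∈ (S : Subgroup G))
    (hyz : y ∉ ctr (S : Subgroup G)) (ho : o ∈ O) (hoy : o * y = y * o) :
    ∀ s ∈ (S : Subgroup G), o * s = s * o := by
  have hoN : o ∈ Subgroup.normalizer ((S : Subgroup G) : Set G) :=
    h.centralizer_le hy hyz (Subgroup.mem_centralizer_singleton_iff.2 hoy)
  intro s hs
  have h1 : o * s * o⁻¹ * s⁻¹ ∈ (S : Subgroup G) :=
    mul_mem ((Subgroup.mem_normalizer_iff.1 hoN s).1 hs) (inv_mem hs)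
  have h2 : o * s * o⁻¹ * s⁻¹ ∈ O := by
    have := O.mul_mem ho (‹O.Normal›.conj_mem _ (O.inv_mem ho) s)
    simpa [mul_assoc] using this
  obtain ⟨n, hn⟩ := IsPGroup.iff_card.1 S.isPGroup'
  have h3 : o * s * o⁻¹ * s⁻¹ = 1 :=
    Coprime.eq_one_of_mem_of_mem (by rw [hn]; exact (hO.symm.pow_left n)) h1 h2
  rwa [mul_inv_eq_one, mul_inv_eq_iff_eq_mul] at h3

theorem CI.subgroup [Finite G] (h : CI G) (H : Subgroup G) : CI ↥H := by
  intro S T hne x hxS hxT s hs
  obtain ⟨S', hS'⟩ := Sylow.exists_comap_subtype_eq S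
  obtain ⟨T', hT'⟩ := Sylow.exists_comap_subtype_eq T
  have hne' : S' ≠ T' := by
    rintro rfl
    exact hne (Sylow.ext (hS'.symm.trans hT'))
  have mS : ∀ {z : ↥H}, z ∈ (S : Subgroup ↥H) → (z : G) ∈ (S' : Subgroup G) := fun hz => by
    rw [← hS'] at hz; exact hz
  have hxT' : (x : G) ∈ (T' : Subgroup G) := by rw [← hT'] at hxT; exact hxT
  exact Subtype.ext (h S' T' hne' x (mS hxS) hxT' s (mS hs))

/-- Two 2-elements with the same image modulo an odd kernel are conjugate by a kernel element. -/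
theorem exists_ker_conj [Finite G] {K : Type*} [Group K] (f : G →* K)
    (hker : (Nat.card f.ker).Coprime 2) {x t : G} (hx : ∃ n, orderOf x = 2 ^ n)
    (ht : ∃ n, orderOf t = 2 ^ n) (he : f x = f t) : ∃ k ∈ f.ker, k * x * k⁻¹ = t := by
  have inj : ∀ {u : G}, (∃ n, orderOf u = 2 ^ n) →
      Set.InjOn f (Subgroup.zpowers u : Set G) := by
    rintro u ⟨n, hn⟩ a ha b hb hab
    have h1 : a⁻¹ * b ∈ f.ker := by simp [MonoidHom.mem_ker, hab]
    have h2 : a⁻¹ * b ∈ Subgroup.zpowers u := mul_mem (inv_mem ha) hb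
    have h3 := Coprime.eq_one_of_mem_of_mem
      (by rw [Nat.card_zpowers, hn]; exact hker.symm.pow_left n) h2 h1
    exact inv_mul_eq_one.1 h3
  have hord : ∀ {u : G}, (∃ n, orderOf u = 2 ^ n) → orderOf (f u) = orderOf u := by
    intro u hu
    refine Nat.dvd_antisymm (orderOf_map_dvd f u) (orderOf_dvd_of_pow_eq_one ?_)
    exact inj hu (pow_mem (Subgroup.mem_zpowers u) _) (one_mem _)
      (by rw [map_pow, pow_orderOf_eq_one, map_one])
  obtain ⟨n, hn⟩ := hx
  have hsolv : Group.IsSolvable ↥(Subgroup.zpowers x) ∨ Group.IsSolvable ↥f.ker :=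
    Or.inl inferInstance
  have hxN : Subgroup.zpowers x ≤ Subgroup.normalizer (f.ker : Set G) := by
    rw [Subgroup.normalizer_eq_top]; exact le_top
  have htmem : t ∈ f.ker ⊔ Subgroup.zpowers x := by
    have h1 : t * x⁻¹ ∈ f.ker := by simp [MonoidHom.mem_ker, he]
    have := Subgroup.mul_mem_sup h1 (Subgroup.mem_zpowers x)
    simpa using this
  obtain ⟨k, hk, hkx⟩ := Coprime.exists_conj_eq_of_le_sup hxN
    (by rw [Nat.card_zpowers, hn]; exact hker.symm.pow_left n) hsolv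
    (L := Subgroup.zpowers t) (Subgroup.zpowers_le.2 htmem)
    (by rw [Nat.card_zpowers, Nat.card_zpowers, ← hord ht, ← hord ⟨n, hn⟩, he])
  refine ⟨k, hk, inj ht ?_ (Subgroup.mem_zpowers t) ?_⟩
  · show k * x * k⁻¹ ∈ Subgroup.zpowers t
    rw [← hkx, Coprime.mem_conj]
    simpa [mul_assoc] using Subgroup.mem_zpowers x
  · rw [map_mul, map_mul, map_inv, MonoidHom.mem_ker.1 hk, one_mul, inv_one, mul_one, he]

theorem two_pow_of_mem_sylow {S : Sylow 2 G} {x : G} (hx : x ∈ (S : Subgroup G)) :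
    ∃ n, orderOf x = 2 ^ n := by
  haveI : Fact (Nat.Prime 2) := ⟨Nat.prime_two⟩
  obtain ⟨n, hn⟩ := IsPGroup.iff_orderOf.1 S.isPGroup' ⟨x, hx⟩
  exact ⟨n, by simpa using hn⟩

theorem CI.map_odd [Finite G] (h : CI G) {K : Type*} [Group K] (f : G →* K)
    (hf : Function.Surjective f) (hker : (Nat.card f.ker).Coprime 2) : CI K := by
  haveI : Fact (Nat.Prime 2) := ⟨Nat.prime_two⟩
  intro S T hne x hxS hxT s hs
  obtain ⟨S', rfl⟩ := Sylow.mapSurjective_surjective hf 2 S
  obtain ⟨T', rfl⟩ := Sylow.mapSurjective_surjective hf 2 T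
  obtain ⟨x', hx', rfl⟩ := hxS
  obtain ⟨t, ht, htx⟩ := hxT
  obtain ⟨s', hs', rfl⟩ := hs
  obtain ⟨k, hk, hkx⟩ := exists_ker_conj f hker (two_pow_of_mem_sylow hx')
    (two_pow_of_mem_sylow ht) htx.symm
  have hxT' : x' ∈ ((k⁻¹ • T' : Sylow 2 G) : Subgroup G) := by
    rw [mem_smul_iff, inv_inv, hkx]; exact ht
  have hne' : S' ≠ k⁻¹ • T' := by
    intro e
    refine hne (Sylow.ext ?_)
    rw [Sylow.coe_mapSurjective, Sylow.coe_mapSurjective, e, Sylow.coe_subgroup_smul]
    apply le_antisymm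
    · rintro _ ⟨_, ⟨y, hy, rfl⟩, rfl⟩
      refine ⟨y, hy, ?_⟩
      show f y = f (k⁻¹ * y * k⁻¹⁻¹)
      simp [MonoidHom.mem_ker.1 hk]
    · rintro _ ⟨y, hy, rfl⟩
      refine ⟨k⁻¹ * y * k, ⟨y, hy, by simp⟩, ?_⟩
      simp [MonoidHom.mem_ker.1 hk]
  rw [← map_mul, ← map_mul, h S' _ hne' x' hx' hxT' s' hs']

theorem le_sylow_of_normal [Finite G] {N : Subgroup G} [hN : N.Normal] (h : IsPGroup 2 N)
    (S : Sylow 2 G) : N ≤ (S : Subgroup G) := by
  haveI : Fact (Nat.Prime 2) := ⟨Nat.prime_two⟩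
  exact (Cores.le_pCore hN h).trans (Cores.pCore_le_sylow S)

theorem CI.map_two [Finite G] (h : CI G) {K : Type*} [Group K] (f : G →* K)
    (hf : Function.Surjective f) (hker : IsPGroup 2 f.ker) : CI K := by
  haveI : Fact (Nat.Prime 2) := ⟨Nat.prime_two⟩
  intro S T hne x hxS hxT s hs
  obtain ⟨S', rfl⟩ := Sylow.mapSurjective_surjective hf 2 S
  obtain ⟨T', rfl⟩ := Sylow.mapSurjective_surjective hf 2 T
  obtain ⟨x', hx', rfl⟩ := hxS
  obtain ⟨t, ht, htx⟩ := hxT
  obtain ⟨s', hs', rfl⟩ := hs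
  have hxT' : x' ∈ (T' : Subgroup G) := by
    have h1 : t⁻¹ * x' ∈ f.ker := by simp [MonoidHom.mem_ker, htx]
    simpa using mul_mem ht (le_sylow_of_normal hker T' h1)
  rw [← map_mul, ← map_mul, h S' T' (fun e => hne (by rw [e])) x' hx' hxT' s' hs']

/-- Sylow 2-subgroups of a normal subgroup are the intersections with those of the group. -/
theorem exists_sylow_inf [Finite G] (N : Subgroup G) [hN : N.Normal] (S : Sylow 2 G) :
    ∃ Q : Sylow 2 N, (Q : Subgroup N) = (S : Subgroup G).subgroupOf N := by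
  haveI : Fact (Nat.Prime 2) := ⟨Nat.prime_two⟩
  exact Cores.sylow_inf_isSubnormal S hN.isSubnormal

end Cfsg.Agent.CISylow
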