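import Cfsg.Agent.Lib.CISylow.Bar
import Cfsg.Agent.Lib.Components.GenFitting

/-!
# The component of a core-free group with central Sylow 2-intersections (helper21)

In a core-free CI-group with nonabelian, nonnormal Sylow 2-subgroup `S` there is exactly one
component `L`; it is normal, `S ∩ L` is not central in `S`, and `C_S(L) = O_2`.
-/

set_option autoImplicit false

namespace Cfsg.Agent.CISylow

open Cfsg

universe u

variable {G : Type u} [Group G] [Finite G]

/-- The standing hypotheses. -/
structure Ctx (S : Sylow 2 G) : Prop where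
  ci : CI G
  core : pPrimeCore 2 G = ⊥
  noncomm : ¬ IsMulCommutative (S : Subgroup G)
  notNormal : ¬ (S : Subgroup G).Normal

variable {S : Sylow 2 G}

theorem Ctx.pCore_le_ctr (h : Ctx S) (T : Sylow 2 G) : pCore 2 G ≤ ctr (T : Subgroup G) := by
  haveI : Fact (Nat.Prime 2) := ⟨Nat.prime_two⟩
  obtain ⟨T', hT'⟩ : ∃ T' : Sylow 2 G, T' ≠ T := by
    by_contra hc
    push Not at hc
    refine h.notNormal (Subgroup.normalizer_eq_top_iff.1 (eq_top_iff.2 fun g _ => ?_))
    rw [mem_normalizer_iff_smul, hc (g • S), hc S]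
  exact fun x hx => h.ci.mem_ctr hT'.symm (Cores.pCore_le_sylow T hx) (Cores.pCore_le_sylow T' hx)

theorem Ctx.center_le_pCore (h : Ctx S) {L : Subgroup G} (hL : IsComponent L) :
    (Subgroup.center ↥L).map L.subtype ≤ pCore 2 G := by
  haveI : Fact (Nat.Prime 2) := ⟨Nat.prime_two⟩
  rw [← Components.fitting_eq_pCore_of h.core]
  refine (Subgroup.map_mono (Cores.le_fittingSubgroup inferInstance ?_)).trans
    ((Components.fitting_map_subtype_of_isSubnormal hL.1).le.trans inf_le_left)
  letI : CommGroup ↥(Subgroup.center ↥L) :=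
    { (inferInstance : Group ↥(Subgroup.center ↥L)) with
      mul_comm := fun a b => Subtype.ext (Subgroup.mem_center_iff.1 b.2 a) }
  exact CommGroup.isNilpotent

theorem Ctx.isPGroup_center (h : Ctx S) {L : Subgroup G} (hL : IsComponent L) :
    IsPGroup 2 ↥(Subgroup.center ↥L) :=
  ((Cores.isPGroup_pCore 2 G).to_le (h.center_le_pCore hL)).of_equiv
    (Subgroup.equivMapOfInjective _ L.subtype L.subtype_injective).symm

/-- Elements of `S` centralising all components lie in `O_2`. -/
theorem Ctx.mem_pCore (h : Ctx S) {c : G} (hc : c ∈ (S : Subgroup G))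
    (hcomp : ∀ K : Subgroup G, IsComponent K → ∀ l ∈ K, c * l = l * c) : c ∈ pCore 2 G := by
  haveI : Fact (Nat.Prime 2) := ⟨Nat.prime_two⟩
  rw [← Components.fitting_eq_pCore_of h.core]
  refine Components.centralizer_genFitting_le_fitting ?_
  have hle : generalizedFittingSubgroup G ≤ Subgroup.centralizer ({c} : Set G) := by
    refine sup_le (Components.layer_le fun K hK l hl =>
      Subgroup.mem_centralizer_singleton_iff.2 (hcomp K hK l hl).symm) ?_
    rw [Components.fitting_eq_pCore_of h.core]
    exact fun a ha => Subgroup.mem_centralizer_singleton_iff.2 ((h.pCore_le_ctr S ha).2 c hc).symm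
  exact fun x hx => Subgroup.mem_centralizer_singleton_iff.1 (hle hx)

theorem exists_sylow_component {L : Subgroup G} (hL : IsComponent L) (S : Sylow 2 G) :
    ∃ Q : Sylow 2 ↥L, (Q : Subgroup ↥L) = (S : Subgroup G).subgroupOf L := by
  haveI : Fact (Nat.Prime 2) := ⟨Nat.prime_two⟩
  exact Cores.sylow_inf_isSubnormal S hL.1

theorem not_sylow_le_center {L : Subgroup G} (hL : IsComponent L) (Q : Sylow 2 ↥L) :
    ¬ (Q : Subgroup ↥L) ≤ Subgroup.center ↥L := by
  haveI : Fact (Nat.Prime 2) := ⟨Nat.prime_two⟩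
  intro hle
  have h := (Q.mapSurjective (toBar_surjective L)).dvd_card_of_dvd_card (barFacts hL).even
  rw [Sylow.coe_mapSurjective, (Subgroup.map_eq_bot_iff _).2 (by rw [ker_toBar]; exact hle),
    Subgroup.card_bot] at h
  norm_num at h

theorem Ctx.exists_component (h : Ctx S) : ∃ L : Subgroup G, IsComponent L := by
  haveI : Fact (Nat.Prime 2) := ⟨Nat.prime_two⟩
  by_contra hno
  push Not at hno
  have hE := Components.layer_eq_bot_iff.2 hno
  have hS : (S : Subgroup G) ≤ pCore 2 G := fun c hc =>
    h.mem_pCore hc fun K hK => absurd hK (hno K)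
  exact h.notNormal ((le_antisymm (Cores.pCore_le_sylow S) hS) ▸ Cores.pCore_normal 2 G)

theorem Ctx.exists_noncentral (h : Ctx S) :
    ∃ L : Subgroup G, IsComponent L ∧ ¬ ((S : Subgroup G) ⊓ L ≤ ctr (S : Subgroup G)) := by
  classical
  haveI : Fact (Nat.Prime 2) := ⟨Nat.prime_two⟩
  by_contra hno
  push Not at hno
  refine h.noncomm ⟨⟨fun a b => Subtype.ext (?_ : (a : G) * b = b * a)⟩⟩
  suffices hall : ∀ s ∈ (S : Subgroup G), s ∈ ctr (S : Subgroup G) from (hall b b.2).2 a a.2
  intro s hs
  have key : ∀ 𝓕 : Finset (Subgroup G), (∀ L ∈ 𝓕, IsComponent L) →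
      ∃ p ∈ ctr (S : Subgroup G), (∀ L : Subgroup G, IsComponent L → L ∉ 𝓕 → ∀ l ∈ L, p * l = l * p) ∧
        ∀ L ∈ 𝓕, ∀ l ∈ L, p⁻¹ * s * l = l * (p⁻¹ * s) := by
    intro 𝓕
    induction 𝓕 using Finset.induction_on with
    | empty => exact fun _ => ⟨1, one_mem _, fun L _ _ l _ => by rw [one_mul, mul_one], by simp⟩
    | @insert L0 𝓕 hL0 ih =>
      intro hcomp
      obtain ⟨p, hp, hp1, hp2⟩ := ih fun L hL => hcomp L (Finset.mem_insert_of_mem hL)
      have hL : IsComponent L0 := hcomp L0 (Finset.mem_insert_self _ _)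
      obtain ⟨Q, hQ⟩ := exists_sylow_component hL S
      have hQc : ∀ q ∈ (Q : Subgroup ↥L0), (q : G) ∈ ctr (S : Subgroup G) := fun q hq => by
        rw [hQ] at hq
        exact hno L0 hL ⟨hq, q.2⟩
      set u := p⁻¹ * s with hu
      have huS : u ∈ (S : Subgroup G) := mul_mem (inv_mem hp.1) hs
      have hfix : ∀ q ∈ (Q : Subgroup ↥L0), u * (q : G) = (q : G) * u :=
        fun q hq => (hQc q hq).2 u huS
      have hcommute : ∀ K : Subgroup G, IsComponent K → K ≠ L0 → ∀ k ∈ K, ∀ l ∈ L0, k * l = l * k :=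
        fun K hK hne k hk l hl => by
          have h0 := Subgroup.commutator_eq_bot_iff_le_centralizer.1
            (Components.IsComponent.commutator_eq_bot hK hL hne)
          exact (h0 hk l hl).symm
      have huN : u ∈ Subgroup.normalizer (L0 : Set G) := by
        set K := L0.map (MulAut.conj u).toMonoidHom with hKd
        by_cases hK : K = L0
        · refine Coprime.mem_normalizer_of_forall fun x hx => ?_
          rw [← hK]
          exact ⟨x, hx, rfl⟩
        · exfalso
          refine not_sylow_le_center hL Q fun q hq => ?_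
          have hqK : (q : G) ∈ K := ⟨q, q.2, by
            show u * (q : G) * u⁻¹ = q
            rw [hfix q hq, mul_inv_cancel_right]⟩
          exact mem_center_iff'.2 fun l hl =>
            (hcommute K (Components.IsComponent.conj hL u) hK q hqK l hl).symm
      obtain ⟨q, hq, hqc⟩ := exists_mul_commute hL (h.isPGroup_center hL) Q (fun a ha b hb =>
          congrArg (toBar L0) (Subtype.ext ((hQc b hb).2 a (hQc a ha).1)))
        huN (two_pow_of_mem_sylow huS) hfix
      refine ⟨p * q, mul_mem hp (hQc q hq), fun L hLc hLn l hl => ?_, fun L hLm l hl => ?_⟩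
      · rw [Finset.mem_insert, not_or] at hLn
        rw [mul_assoc, ← hcommute L hLc hLn.1 l hl q q.2, ← mul_assoc, hp1 L hLc hLn.2 l hl, mul_assoc]
      · rw [show (p * (q : G))⁻¹ * s = (q : G)⁻¹ * u by rw [hu]; group]
        rcases Finset.mem_insert.1 hLm with rfl | hLm'
        · exact hqc l hl
        · have hne : L ≠ L0 := fun e => hL0 (e ▸ hLm')
          rw [mul_assoc, hp2 L hLm' l hl, ← mul_assoc,
            ← hcommute L (hcomp L (Finset.mem_insert_of_mem hLm')) hne l hl (q : G)⁻¹ (L0.inv_mem q.2),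
            mul_assoc]
  obtain ⟨p, hp, -, hp2⟩ := key (Set.toFinite {L : Subgroup G | IsComponent L}).toFinset
    fun L hL => by simpa using hL
  have hc : p⁻¹ * s ∈ pCore 2 G := h.mem_pCore (mul_mem (inv_mem hp.1) hs) fun K hK l hl =>
    hp2 K (by simpa using hK) l hl
  simpa using mul_mem hp (h.pCore_le_ctr S hc)

/-- The component. -/
structure CompCtx (S : Sylow 2 G) (L : Subgroup G) : Prop extends Ctx S where
  comp : IsComponent L
  normal : L.Normal
  unique : ∀ K : Subgroup G, IsComponent K → K = L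
  noncentral : ¬ ((S : Subgroup G) ⊓ L ≤ ctr (S : Subgroup G))

theorem Ctx.exists_compCtx (h : Ctx S) : ∃ L : Subgroup G, CompCtx S L := by
  haveI : Fact (Nat.Prime 2) := ⟨Nat.prime_two⟩
  obtain ⟨L, hL, hLz⟩ := h.exists_noncentral
  have huniq : ∀ K : Subgroup G, IsComponent K → K = L := by
    intro K hK
    by_contra hne
    obtain ⟨y, ⟨hyS, hyL⟩, hyz⟩ := SetLike.not_le_iff_exists.1 hLz
    have hKN : K ≤ Subgroup.normalizer ((S : Subgroup G) : Set G) := fun k hk =>
      h.ci.centralizer_le hyS hyz (Subgroup.mem_centralizer_singleton_iff.2 (by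
        have h0 := Subgroup.commutator_eq_bot_iff_le_centralizer.1
          (Components.IsComponent.commutator_eq_bot hL hK (fun e => hne e.symm))
        exact h0 hyL k hk))
    obtain ⟨Q, hQ⟩ := exists_sylow_component hK S
    haveI : (Q : Subgroup ↥K).Normal := by
      rw [hQ]
      exact Subgroup.normal_subgroupOf_of_le_normalizer hKN
    rcases Components.IsQuasisimple.normal_eq_top_or_le_center hK.2 (Q : Subgroup ↥K) with e | e
    · refine Components.IsQuasisimple.not_isNilpotent hK.2 ?_
      haveI := Q.isPGroup'.isNilpotent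
      rw [e] at this
      exact Group.nilpotent_of_surjective (Subgroup.topEquiv (G := ↥K)).toMonoidHom
        (Subgroup.topEquiv (G := ↥K)).surjective
    · exact not_sylow_le_center hK Q e
  refine ⟨L, h, hL, ⟨fun x hx g => ?_⟩, huniq, hLz⟩
  rw [← huniq _ (Components.IsComponent.conj hL g)]
  exact ⟨x, hx, rfl⟩

theorem CompCtx.mem_pCore' {L : Subgroup G} (h : CompCtx S L) {c : G} (hc : c ∈ (S : Subgroup G))
    (hcomm : ∀ l ∈ L, c * l = l * c) : c ∈ pCore 2 G :=
  h.toCtx.mem_pCore hc fun K hK => by rwa [h.unique K hK]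

/-- `O_2` centralises the component. -/
theorem CompCtx.pCore_commute {L : Subgroup G} (h : CompCtx S L) {a : G} (ha : a ∈ pCore 2 G) :
    ∀ l ∈ L, a * l = l * a := by
  haveI : Fact (Nat.Prime 2) := ⟨Nat.prime_two⟩
  intro l hl
  rw [← Components.fitting_eq_pCore_of h.core] at ha
  exact Components.layer_le_centralizer_fitting (Components.IsComponent.le_layer h.comp hl) a ha

end Cfsg.Agent.CISylow
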