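import Cfsg.Agent.Lib.CISylow.Component
import Cfsg.Agent.Lib.CISylow.Ident
import Cfsg.Agent.Lib.MeetReduce.Basic

/-!
# The envelope of a local subgroup (helper21)

`Data S L`: the component `L` has a strongly embedded subgroup modulo its centre and
`S = (S ∩ L) O_2`.

`exists_envelope`: in a group with `Data` (or a normal Sylow 2-subgroup) and a normal subgroup `N`
whose Sylow 2-subgroup is abelian modulo the centre, there is a normal `M ≥ S` centralised by `Z(S)`
such that odd subgroups of `N` normalised by `S ∩ N` centralise `M ∩ N`.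
-/

set_option autoImplicit false

namespace Cfsg.Agent.CISylow

open Cfsg

universe u

variable {G : Type u} [Group G] [Finite G]

/-- The structure of a core-free group with nonnormal nonabelian Sylow 2-subgroup. -/
structure Data (S : Sylow 2 G) (L : Subgroup G) : Prop extends CompCtx S L where
  split : (S : Subgroup G) ≤ ((S : Subgroup G) ⊓ L) ⊔ pCore 2 G
  se : ∃ H : Subgroup (Bar L), IsStronglyEmbedded H

variable {S : Sylow 2 G} {L : Subgroup G}

theorem Data.regular (h : Data S L) (P : Sylow 2 (Bar L)) : Regular P := by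
  haveI := (barFacts h.comp).simple
  obtain ⟨H, hH⟩ := h.se
  exact (regular_families_of_se hH).1 P

theorem Data.families (h : Data S L) : Families (Bar L) := by
  haveI := (barFacts h.comp).simple
  obtain ⟨H, hH⟩ := h.se
  exact (regular_families_of_se hH).2

theorem Data.exists_eq (h : Data S L) {z : G} (hz : z ∈ (S : Subgroup G)) :
    ∃ q ∈ (S : Subgroup G) ⊓ L, ∃ a ∈ pCore 2 G, q * a = z :=
  Subgroup.mem_sup_of_normal_right.1 (h.split hz)

/-- If `S ∩ L` is commutative then so is `S`. -/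
theorem Data.not_comm (h : Data S L) :
    ¬ ∀ a ∈ (S : Subgroup G) ⊓ L, ∀ b ∈ (S : Subgroup G) ⊓ L, a * b = b * a := by
  intro hc
  refine h.noncomm ⟨⟨fun x y => Subtype.ext (?_ : (x : G) * y = y * x)⟩⟩
  obtain ⟨q, hq, a, ha, hx⟩ := h.exists_eq x.2
  obtain ⟨q', hq', a', ha', hy⟩ := h.exists_eq y.2
  have hA : ∀ c ∈ pCore 2 G, ∀ s ∈ (S : Subgroup G), Commute s c := fun c hc s hs =>
    (h.toCtx.pCore_le_ctr S hc).2 s hs
  rw [← hx, ← hy]
  have h1 : Commute q (q' * a') := (Commute.mul_right (hc q hq q' hq') (hA a' ha' q hq.1))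
  have h2 : Commute a (q' * a') := (Commute.mul_right ((hA a ha q' hq'.1).symm)
    ((hA a ha a' ((h.toCtx.pCore_le_ctr S ha').1)).symm))
  exact (h1.mul_left h2).eq

/-- Elements of odd order of `L O_2` lie in `L`. -/
theorem Data.mem_of_odd (h : Data S L) {x : G} (hx : x ∈ L ⊔ pCore 2 G) {m : ℕ} (hm : m.Coprime 2)
    (hxm : x ^ m = 1) : x ∈ L := by
  haveI : Fact (Nat.Prime 2) := ⟨Nat.prime_two⟩
  obtain ⟨l, hl, a, ha, rfl⟩ := Subgroup.mem_sup_of_normal_right.1 hx
  have hc : Commute a l := h.toCompCtx.pCore_commute ha l hl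
  refine L.mul_mem hl (Coprime.mem_of_pow_mem (n := m) ?_ ?_)
  · obtain ⟨n, hn⟩ := two_pow_of_mem_sylow (Cores.pCore_le_sylow S ha)
    rw [hn]
    exact (hm.symm.pow_left n)
  · rw [hc.symm.mul_pow] at hxm
    rw [eq_inv_of_mul_eq_one_right hxm]
    exact L.inv_mem (pow_mem hl m)

/-- With a Klein four Sylow 2-subgroup modulo the centre no nontrivial odd subgroup is normalised by it. -/
theorem eq_bot_of_invariant {X : Type u} [Group X] [Finite X] (hX : BarFacts X) (P : Sylow 2 X)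
    (hreg : Regular P) (hP : IsMulCommutative (P : Subgroup X)) {D : Subgroup X}
    (hD : (Nat.card D).Coprime 2) (hPD : (P : Subgroup X) ≤ Subgroup.normalizer (D : Set X)) :
    D = ⊥ := by
  haveI := hX.simple
  haveI := hP
  obtain ⟨n, hn⟩ := IsPGroup.iff_card.1 P.isPGroup'
  have hcop : (Nat.card (P : Subgroup X)).Coprime (Nat.card D) := by
    rw [hn]; exact hD.symm.pow_left n
  have hns : ¬ Group.IsSolvable X := fun h => by
    haveI := h
    exact hX.noncomm ⟨⟨IsSimpleGroup.comm_iff_isSolvable.2 h⟩⟩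
  refine le_bot_iff.1 (Coprime.le_of_noncyclic (MeetReduce.not_isCyclic_sylow hns P) hPD hcop
    fun a ha ha1 => ?_)
  rintro d ⟨hd, hda⟩
  have hdN : d ∈ Subgroup.normalizer ((P : Subgroup X) : Set X) := by
    rw [mem_normalizer_iff_smul]
    by_contra hne
    refine ha1 (hreg.2 _ hne a ha ((mem_normalizer_iff_smul _).1 (Subgroup.le_normalizer ?_)))
    rw [mem_smul_iff, mul_assoc, ← Subgroup.mem_centralizer_singleton_iff.1 hda, inv_mul_cancel_left]
    exact ha
  have hdC := Coprime.mem_centralizer_of_normalizer hPD hcop hd hdN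
  have hdm : d ^ Nat.card D = 1 := by
    have := congrArg Subtype.val (pow_card_eq_one' (G := D) (x := ⟨d, hd⟩))
    rwa [SubmonoidClass.coe_pow, OneMemClass.coe_one] at this
  have h1 : (MulAut.conj : X →* MulAut X) d = 1 := by
    refine aut_eq_one hX hreg hD (by rw [← map_pow, hdm, map_one]) fun x hx => ?_
    rw [MulAut.conj_apply, ← hdC x hx, mul_inv_cancel_right]
  have hZ : d ∈ Subgroup.center X := Subgroup.mem_center_iff.2 fun x => by
    have h2 : d * x * d⁻¹ = x := by simpa using DFunLike.congr_fun h1 x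
    exact (mul_inv_eq_iff_eq_mul.1 h2).symm
  rwa [hX.center] at hZ

theorem exists_envelope (hci : CI G) (hcore : pPrimeCore 2 G = ⊥) (S : Sylow 2 G)
    (hnc : ¬ IsMulCommutative (S : Subgroup G))
    (hdata : (S : Subgroup G).Normal ∨ ∃ L, Data S L) (N : Subgroup G) [hN : N.Normal]
    (hab : ∀ a ∈ (S : Subgroup G) ⊓ N, ∀ b ∈ (S : Subgroup G) ⊓ N,
      a * b * a⁻¹ * b⁻¹ ∈ Subgroup.center G)
    (haut : ∀ a ∈ (S : Subgroup G), ∀ b ∈ (S : Subgroup G),
      (∀ q ∈ (S : Subgroup G) ⊓ N, a * q = q * a) → (∀ q ∈ (S : Subgroup G) ⊓ N, b * q = q * b) →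
        a * b = b * a) :
    ∃ M : Subgroup G, M.Normal ∧ (S : Subgroup G) ≤ M ∧
      (∀ z ∈ ctr (S : Subgroup G), ∀ m ∈ M, z * m = m * z) ∧
      ∀ D : Subgroup G, D ≤ N → (Nat.card D).Coprime 2 →
        (S : Subgroup G) ⊓ N ≤ Subgroup.normalizer (D : Set G) →
          D ≤ Subgroup.centralizer ((M ⊓ N : Subgroup G) : Set G) := by
  haveI : Fact (Nat.Prime 2) := ⟨Nat.prime_two⟩
  rcases hdata with hn | ⟨L, h⟩
  · refine ⟨S, hn, le_rfl, fun z hz m hm => (hz.2 m hm).symm, fun D _ hD hSD d hd q hq => ?_⟩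
    have h1 : q * d * q⁻¹ * d⁻¹ ∈ D :=
      mul_mem ((Subgroup.mem_normalizer_iff.1 (hSD hq) d).1 hd) (inv_mem hd)
    have h2 : q * d * q⁻¹ * d⁻¹ ∈ (S : Subgroup G) := by
      have := mul_mem hq.1 (hn.conj_mem _ ((S : Subgroup G).inv_mem hq.1) d)
      simpa [mul_assoc] using this
    obtain ⟨n, hn'⟩ := IsPGroup.iff_card.1 S.isPGroup'
    have h3 := Coprime.eq_one_of_mem_of_mem (by rw [hn']; exact hD.symm.pow_left n) h2 h1
    rwa [mul_inv_eq_one, mul_inv_eq_iff_eq_mul] at h3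
  haveI := h.normal
  set A := pCore 2 G
  -- the component lies in `N`
  have hLN : L ≤ N := by
    refine (Components.IsComponent.le_or_commutes h.comp hN.isSubnormal).resolve_right fun he => ?_
    have hc := Subgroup.commutator_eq_bot_iff_le_centralizer.1 he
    have key : ∀ a ∈ (S : Subgroup G) ⊓ L, ∀ q ∈ (S : Subgroup G) ⊓ N, a * q = q * a :=
      fun a ha q hq => (hc ha.2 q hq.2).symm
    exact h.not_comm fun a ha b hb => haut a ha.1 b hb.1 (key a ha) (key b hb)
  obtain ⟨Q, hQ⟩ := exists_sylow_component h.comp S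
  set P := Q.mapSurjective (toBar_surjective L)
  have hPdef : (P : Subgroup (Bar L)) = (Q : Subgroup ↥L).map (toBar L) := rfl
  have hQmem : ∀ {q : ↥L}, q ∈ (Q : Subgroup ↥L) → (q : G) ∈ (S : Subgroup G) ⊓ N := fun {q} hq => by
    rw [hQ] at hq
    exact ⟨hq, hLN q.2⟩
  have hPc : ∀ a ∈ (Q : Subgroup ↥L), ∀ b ∈ (Q : Subgroup ↥L), toBar L (a * b) = toBar L (b * a) := by
    intro a ha b hb
    rw [toBar_eq_iff, mem_center_iff']
    intro l _
    have h1 := Subgroup.mem_center_iff.1 (hab _ (hQmem ha) _ (hQmem hb)) l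
    have e : ((a * b * (b * a)⁻¹ : ↥L) : G) = (a : G) * b * (a : G)⁻¹ * (b : G)⁻¹ := by
      simp [mul_assoc]
    rw [e]
    exact h1
  haveI hPcomm : IsMulCommutative (P : Subgroup (Bar L)) := by
    refine ⟨⟨?_⟩⟩
    rintro ⟨_, a, ha, rfl⟩ ⟨_, b, hb, rfl⟩
    exact Subtype.ext (by simpa using hPc a ha b hb)
  haveI : Group.IsPerfect ↥L := h.comp.2.1
  have hne : Subgroup.center ↥L ≠ ⊥ := by
    intro hbot
    refine h.not_comm fun a ha b hb => ?_
    have := hPc ⟨a, ha.2⟩ (by rw [hQ]; exact ha.1) ⟨b, hb.2⟩ (by rw [hQ]; exact hb.1)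
    rw [toBar_eq_iff, hbot, Subgroup.mem_bot, mul_inv_eq_one] at this
    exact congrArg Subtype.val this
  obtain ⟨hP4, -⟩ := psl_four_of_abelian h.families P hPcomm hne
  -- `Z(S)` centralises `L`
  have hzL : ∀ z ∈ ctr (S : Subgroup G), ∀ l ∈ L, z * l = l * z := by
    intro z hz
    obtain ⟨q, hq, a, ha, rfl⟩ := h.exists_eq hz.1
    have haL := h.toCompCtx.pCore_commute ha
    have hqz : q ∈ ctr (S : Subgroup G) := by
      have := mul_mem hz (inv_mem (h.toCtx.pCore_le_ctr S ha))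
      simpa using this
    suffices hqL : ∀ l ∈ L, q * l = l * q by
      intro l hl
      exact (Commute.mul_left (hqL l hl) (haL l hl) : Commute (q * a) l).eq
    set q' : ↥L := ⟨q, hq.2⟩
    by_contra hcon
    have hq1 : toBar L q' ≠ 1 := fun e => hcon (by
      have e' : q' ∈ Subgroup.center ↥L := by rw [← ker_toBar]; exact e
      exact fun l hl => (mem_center_iff'.1 e' l hl).symm)
    have hq'Q : q' ∈ (Q : Subgroup ↥L) := by rw [hQ]; exact hq.1
    have hqP : toBar L q' ∈ (P : Subgroup (Bar L)) := Subgroup.mem_map_of_mem _ hq'Q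
    set Zq := (Subgroup.zpowers (toBar L q')).subgroupOf (P : Subgroup (Bar L))
    let f : ↥(Q : Subgroup ↥L) →* ↥(P : Subgroup (Bar L)) ⧸ Zq :=
      (QuotientGroup.mk' Zq).comp ((toBar L).subgroupMap (Q : Subgroup ↥L))
    haveI : IsCyclic (↥(P : Subgroup (Bar L)) ⧸ Zq) := by
      have hmul := Zq.card_eq_card_quotient_mul_card_subgroup
      rw [hP4] at hmul
      have h2 : 2 ≤ Nat.card Zq := by
        rw [Cores.card_subgroupOf (Subgroup.zpowers_le.2 hqP), Nat.card_zpowers]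
        have : orderOf (toBar L q') ≠ 1 := fun e => hq1 (orderOf_eq_one_iff.1 e)
        have := orderOf_pos (toBar L q')
        omega
      have hle : Nat.card (↥(P : Subgroup (Bar L)) ⧸ Zq) ≤ 2 := by nlinarith
      have hpos : 0 < Nat.card (↥(P : Subgroup (Bar L)) ⧸ Zq) := Nat.card_pos
      interval_cases hc : Nat.card (↥(P : Subgroup (Bar L)) ⧸ Zq)
      · haveI := (Nat.card_eq_one_iff_unique.1 hc).1
        infer_instance
      · haveI : Fact (Nat.Prime 2) := ⟨Nat.prime_two⟩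
        exact isCyclic_of_prime_card hc
    have hker : f.ker ≤ Subgroup.center ↥(Q : Subgroup ↥L) := by
      intro r hr
      have h1 : toBar L (r : ↥L) ∈ Subgroup.zpowers (toBar L q') := by
        rw [MonoidHom.mem_ker] at hr
        exact Subgroup.mem_subgroupOf.1 ((QuotientGroup.eq_one_iff _).1 hr)
      obtain ⟨k, hk⟩ := Subgroup.mem_zpowers_iff.1 h1
      have h2 : (r : ↥L) * (q' ^ k)⁻¹ ∈ Subgroup.center ↥L := by
        rw [← toBar_eq_iff, map_zpow, hk]
      refine Subgroup.mem_center_iff.2 fun s => Subtype.ext ?_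
      have h3 : Commute (s : ↥L) q' := Subtype.ext (hqz.2 _ (hQmem s.2).1)
      have h4 : Commute (s : ↥L) ((r : ↥L) * (q' ^ k)⁻¹) := Subgroup.mem_center_iff.1 h2 _
      have h5 := h4.mul_right (h3.zpow_right k)
      rw [inv_mul_cancel_right] at h5
      exact h5.eq
    refine h.not_comm fun x hx y hy => ?_
    have := commutative_of_cyclic_center_quotient f hker ⟨⟨x, hx.2⟩, by rw [hQ]; exact hx.1⟩
      ⟨⟨y, hy.2⟩, by rw [hQ]; exact hy.1⟩
    exact congrArg (fun z : ↥(Q : Subgroup ↥L) => ((z : ↥L) : G)) this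
  -- the envelope
  have hSM : (S : Subgroup G) ≤ L ⊔ A := h.split.trans (sup_le_sup inf_le_right le_rfl)
  refine ⟨L ⊔ A, inferInstance, hSM, fun z hz m hm => ?_, fun D hDN hD hSD => ?_⟩
  · obtain ⟨l, hl, a, ha, rfl⟩ := Subgroup.mem_sup_of_normal_right.1 hm
    exact (Commute.mul_right (hzL z hz l hl) ((hz.2 a (Cores.pCore_le_sylow S ha)).symm)).eq
  have hdm : ∀ d ∈ D, d ^ Nat.card D = 1 := fun d hd => by
    have := congrArg Subtype.val (pow_card_eq_one' (G := D) (x := ⟨d, hd⟩))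
    rwa [SubmonoidClass.coe_pow, OneMemClass.coe_one] at this
  have hD2 : ∀ x ∈ D, x ∈ L → x = 1 := by
    intro x hx hxL
    set D' := (D.subgroupOf L).map (toBar L) with hD'
    have hc' : (Nat.card D').Coprime 2 := by
      refine hD.coprime_dvd_left ((Subgroup.card_map_dvd _ _).trans ?_)
      exact Subgroup.card_comap_dvd_of_injective D L.subtype L.subtype_injective
    have hbot : D' = ⊥ := eq_bot_of_invariant (barFacts h.comp) P (h.regular P) hPcomm hc' (by
      rintro _ ⟨q, hq, rfl⟩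
      refine Coprime.mem_normalizer_of_forall ?_
      rintro _ ⟨e, he, rfl⟩
      exact ⟨q * e * q⁻¹, (Subgroup.mem_normalizer_iff.1 (hSD (hQmem hq)) (e : G)).1 he, by
        simp [map_mul]⟩)
    have hxZ : (⟨x, hxL⟩ : ↥L) ∈ Subgroup.center ↥L := by
      rw [← ker_toBar, MonoidHom.mem_ker, ← Subgroup.mem_bot, ← hbot]
      exact ⟨⟨x, hxL⟩, hx, rfl⟩
    obtain ⟨k, hk⟩ := IsPGroup.iff_orderOf.1 (h.toCtx.isPGroup_center h.comp) ⟨_, hxZ⟩
    exact eq_one_of_odd_of_two hD (hdm x hx)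
      ⟨k, by rw [Subgroup.orderOf_mk, Subgroup.orderOf_mk] at hk; exact hk⟩
  intro d hd
  have hdQ : ∀ q ∈ (S : Subgroup G) ⊓ N, d * q = q * d := by
    intro q hq
    have h1 : q * d * q⁻¹ * d⁻¹ ∈ D :=
      mul_mem ((Subgroup.mem_normalizer_iff.1 (hSD hq) d).1 hd) (inv_mem hd)
    have h2 : q * d * q⁻¹ * d⁻¹ ∈ L ⊔ A := by
      have := mul_mem (hSM hq.1)
        ((inferInstance : (L ⊔ A).Normal).conj_mem _ ((L ⊔ A).inv_mem (hSM hq.1)) d)
      simpa [mul_assoc] using this
    have h3 := hD2 _ h1 (h.mem_of_odd h2 hD (hdm _ h1))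
    rw [mul_inv_eq_one, mul_inv_eq_iff_eq_mul] at h3
    exact h3.symm
  have hdL : ∀ l ∈ L, d * l = l * d := commute_of_fix_odd h.comp Q P hPdef (h.regular P)
    (by rw [Subgroup.normalizer_eq_top]; exact Subgroup.mem_top d) hD (hdm d hd)
    fun q hq => hdQ _ (hQmem hq)
  rintro x ⟨hx, hxN⟩
  obtain ⟨l, hl, a, ha, rfl⟩ := Subgroup.mem_sup_of_normal_right.1 hx
  have haN : a ∈ (S : Subgroup G) ⊓ N := ⟨Cores.pCore_le_sylow S ha, by
    have := mul_mem (inv_mem (hLN hl)) hxN
    simpa using this⟩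
  exact (Commute.mul_right (hdL l hl) (hdQ a haN)).eq.symm

end Cfsg.Agent.CISylow
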