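import Cfsg.Agent.Lib.CISylow.Envelope

/-!
# The inductive step at an involution of the meet subgroup (helper21)

`local_facts`: for `y` in the meet subgroup with noncentral image in `L / Z(L)`, the centralizer of
the image is generated by its odd core and the normaliser of the image of the meet subgroup, and odd
subgroups of it normalised by the Sylow 2-subgroup lie in its odd core.
-/

set_option autoImplicit false

namespace Cfsg.Agent.CISylow

open Cfsg
open scoped Pointwise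

universe u

variable {G : Type u} [Group G]

/-- The elements of `S ∩ L` central in every Sylow 2-subgroup containing `S ∩ L`. -/
def meetCore (S : Sylow 2 G) (L : Subgroup G) : Subgroup G where
  carrier := {j | j ∈ (S : Subgroup G) ⊓ L ∧
    ∀ T : Sylow 2 G, (S : Subgroup G) ⊓ L ≤ (T : Subgroup G) → j ∈ ctr (T : Subgroup G)}
  one_mem' := ⟨one_mem _, fun _ _ => one_mem _⟩
  mul_mem' := fun ha hb => ⟨mul_mem ha.1 hb.1, fun T hT => mul_mem (ha.2 T hT) (hb.2 T hT)⟩
  inv_mem' := fun ha => ⟨inv_mem ha.1, fun T hT => inv_mem (ha.2 T hT)⟩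

/-- The induction hypothesis. -/
def IH (G : Type u) : Prop :=
  ∀ (X : Type u) [Group X] [Finite X], Nat.card X < Nat.card G →
    ∀ S : Sylow 2 X, Ctx S → ∃ L, Data S L

variable {S : Sylow 2 G} {L : Subgroup G}

theorem meetCore_le : meetCore S L ≤ (S : Subgroup G) ⊓ L := fun _ hx => hx.1

theorem meetCore_le_ctr : meetCore S L ≤ ctr (S : Subgroup G) := fun _ hx => hx.2 S inf_le_left

theorem conj_mem_meetCore {g : G}
    (hg : g ∈ Subgroup.normalizer (((S : Subgroup G) ⊓ L : Subgroup G) : Set G)) {j : G}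
    (hj : j ∈ meetCore S L) : g * j * g⁻¹ ∈ meetCore S L := by
  refine ⟨(Subgroup.mem_normalizer_iff.1 hg j).1 hj.1, fun T hT => ⟨?_, fun t ht => ?_⟩⟩
  · exact hT ((Subgroup.mem_normalizer_iff.1 hg j).1 hj.1)
  · have hT' : (S : Subgroup G) ⊓ L ≤ ((g⁻¹ • T : Sylow 2 G) : Subgroup G) := fun x hx => by
      rw [mem_smul_iff, inv_inv]
      exact hT ((Subgroup.mem_normalizer_iff.1 hg x).1 hx)
    have h1 := (hj.2 _ hT').2 (g⁻¹ * t * g) ((mem_smul_iff T).2 (by rw [inv_inv, show g * (g⁻¹ * t * g) * g⁻¹ = t by group]; exact ht))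
    calc t * (g * j * g⁻¹) = g * (g⁻¹ * t * g * j) * g⁻¹ := by group
      _ = g * (j * (g⁻¹ * t * g)) * g⁻¹ := by rw [h1]
      _ = g * j * g⁻¹ * t := by group

theorem pow_card_of_mem {D : Subgroup G} {d : G} (hd : d ∈ D) : d ^ Nat.card D = 1 := by
  have := congrArg Subtype.val (pow_card_eq_one' (G := D) (x := ⟨d, hd⟩))
  rwa [SubmonoidClass.coe_pow, OneMemClass.coe_one] at this

variable [Finite G]

theorem CompCtx.center_mem_meetCore (h : CompCtx S L) {z : ↥L} (hz : z ∈ Subgroup.center ↥L) :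
    (z : G) ∈ meetCore S L := by
  have hA : (z : G) ∈ pCore 2 G := h.toCtx.center_le_pCore h.comp ⟨z, hz, rfl⟩
  exact ⟨⟨(h.toCtx.pCore_le_ctr S hA).1, z.2⟩, fun T _ => h.toCtx.pCore_le_ctr T hA⟩

set_option maxHeartbeats 1600000 in
theorem local_facts (h : CompCtx S L) (ih : IH G) (Q : Sylow 2 ↥L)
    (hQ : (Q : Subgroup ↥L) = (S : Subgroup G).subgroupOf L)
    (hPc : ∀ a ∈ (Q : Subgroup ↥L), ∀ b ∈ (Q : Subgroup ↥L), toBar L (a * b) = toBar L (b * a))
    {y : ↥L} (hy : (y : G) ∈ meetCore S L) (hy1 : toBar L y ≠ 1) :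
    (Subgroup.centralizer ({toBar L y} : Set (Bar L)) ≤
      centralizerPPrimeCore 2 (toBar L y) ⊔
        Subgroup.normalizer ((((meetCore S L).subgroupOf L).map (toBar L) : Subgroup (Bar L)) : Set (Bar L))) ∧
    ∀ D : Subgroup (Bar L), D ≤ Subgroup.centralizer ({toBar L y} : Set (Bar L)) →
      (Nat.card D).Coprime 2 →
      (Q : Subgroup ↥L).map (toBar L) ≤ Subgroup.normalizer (D : Set (Bar L)) →
      D ≤ centralizerPPrimeCore 2 (toBar L y) := by
  haveI : Fact (Nat.Prime 2) := ⟨Nat.prime_two⟩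
  haveI := h.normal
  set jb := toBar L y with hjb
  set Cb := Subgroup.centralizer ({jb} : Set (Bar L))
  set Chat : Subgroup G := (Cb.comap (toBar L)).map L.subtype with hChatd
  have hmemC : ∀ {l : ↥L}, (l : G) ∈ Chat ↔ toBar L l ∈ Cb := fun {l} =>
    Subgroup.mem_map_iff_mem L.subtype_injective
  have hChatL : Chat ≤ L := Subgroup.map_subtype_le _
  have hyS : ∀ s ∈ (S : Subgroup G), s * (y : G) = (y : G) * s := (meetCore_le_ctr hy).2
  have hQmem : ∀ {q : ↥L}, q ∈ (Q : Subgroup ↥L) ↔ (q : G) ∈ (S : Subgroup G) := by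
    intro q; rw [hQ]; exact Subgroup.mem_subgroupOf
  have hSLC : (S : Subgroup G) ⊓ L ≤ Chat := fun q hq => by
    refine (hmemC (l := ⟨q, hq.2⟩)).2 (Subgroup.mem_centralizer_singleton_iff.2 ?_)
    rw [hjb, ← map_mul, ← map_mul]
    exact congrArg (toBar L) (Subtype.ext (hyS q hq.1))
  have hSN : (S : Subgroup G) ≤ Subgroup.normalizer (Chat : Set G) := fun s hs =>
    Coprime.mem_normalizer_of_forall fun c hc => by
      have hcL := hChatL hc
      have hsN : s ∈ Subgroup.normalizer (L : Set G) := by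
        rw [Subgroup.normalizer_eq_top]; exact Subgroup.mem_top s
      have hjfix : barAut L ⟨s, hsN⟩ jb = jb := by
        rw [hjb, barAut_apply]
        exact congrArg (toBar L) (Subtype.ext (by
          show s * (y : G) * s⁻¹ = y
          rw [hyS s hs, mul_inv_cancel_right]))
      have hc' := (hmemC (l := ⟨c, hcL⟩)).1 hc
      refine (hmemC (l := ⟨s * c * s⁻¹, (Subgroup.mem_normalizer_iff.1 hsN c).1 hcL⟩)).2 ?_
      have h1 := congrArg (barAut L ⟨s, hsN⟩) (Subgroup.mem_centralizer_singleton_iff.1 hc')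
      rw [map_mul, map_mul, hjfix, barAut_apply] at h1
      exact Subgroup.mem_centralizer_singleton_iff.2 h1
  set H : Subgroup G := Chat ⊔ (S : Subgroup G) with hHd
  have hSH : (S : Subgroup G) ≤ H := le_sup_right
  have hCH : Chat ≤ H := le_sup_left
  have hHne : H ≠ ⊤ := by
    intro hH
    refine hy1 ?_
    have hC : jb ∈ Subgroup.center (Bar L) := by
      refine Subgroup.mem_center_iff.2 fun x => ?_
      obtain ⟨l, rfl⟩ := toBar_surjective L x
      obtain ⟨c, hc, s, hs, hcs⟩ := (Coprime.mem_sup_iff hSN).1 (hH ▸ Subgroup.mem_top (l : G))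
      have hsL : s ∈ L := by
        have h1 := mul_mem (inv_mem (hChatL hc)) l.2
        rw [← hcs, inv_mul_cancel_left] at h1
        exact h1
      have hl : (l : G) ∈ Chat := hcs ▸ mul_mem hc (hSLC ⟨hs, hsL⟩)
      exact Subgroup.mem_centralizer_singleton_iff.1 (hmemC.1 hl)
    rwa [(barFacts h.comp).center, Subgroup.mem_bot] at hC
  set C' := Chat.subgroupOf H with hC'd
  haveI hC'n : C'.Normal := Subgroup.normal_subgroupOf_of_le_normalizer
    (sup_le Subgroup.le_normalizer hSN)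
  set O := pPrimeCore 2 ↥H with hOd
  haveI : O.Normal := Cores.pPrimeCore_normal 2 _
  have hOc : (Nat.card O).Coprime 2 := Cores.coprime_card_pPrimeCore 2
  obtain ⟨nS, hnS⟩ := IsPGroup.iff_card.1 S.isPGroup'
  have hOS : ∀ x : ↥H, x ∈ O → (x : G) ∈ (S : Subgroup G) → x = 1 := fun x hxO hxS =>
    eq_one_of_odd_of_two hOc (pow_card_of_mem hxO)
      (by obtain ⟨n, hn⟩ := two_pow_of_mem_sylow hxS; exact ⟨n, by rw [← Subgroup.orderOf_coe]; exact hn⟩)
  have hOC : O ≤ C' := by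
    intro x hx
    obtain ⟨c, hc, s, hs, hcs⟩ := (Coprime.mem_sup_iff hSN).1 x.2
    have hord : (orderOf x).Coprime (2 ^ nS) :=
      (hOc.coprime_dvd_left (orderOf_dvd_of_pow_eq_one (pow_card_of_mem hx))).pow_right nS
    refine Coprime.mem_of_pow_mem hord ?_
    rw [← QuotientGroup.eq_one_iff, QuotientGroup.mk_pow]
    have he : (x : ↥H ⧸ C') = ((⟨s, hSH hs⟩ : ↥H) : ↥H ⧸ C') := by
      rw [QuotientGroup.eq_iff_div_mem, div_eq_mul_inv, Subgroup.mem_subgroupOf]
      show (x : G) * s⁻¹ ∈ Chat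
      rwa [← hcs, mul_inv_cancel_right]
    rw [he, ← QuotientGroup.mk_pow, QuotientGroup.eq_one_iff,
      show (⟨s, hSH hs⟩ : ↥H) ^ 2 ^ nS = 1 from Subtype.ext (hnS ▸ pow_card_of_mem hs)]
    exact one_mem _
  set f := QuotientGroup.mk' O with hfd
  have hf : Function.Surjective f := QuotientGroup.mk'_surjective O
  have hfO : ∀ a b : ↥H, f a = f b ↔ a * b⁻¹ ∈ O := fun a b => by
    rw [hfd, QuotientGroup.mk'_apply, QuotientGroup.mk'_apply, QuotientGroup.eq_iff_div_mem,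
      div_eq_mul_inv]
  set Sh := S.subtype hSH with hShd
  set Sx := Sh.mapSurjective hf with hSxd
  have hcommS : ∀ a b : ↥H, (a : G) ∈ (S : Subgroup G) → (b : G) ∈ (S : Subgroup G) →
      f (a * b) = f (b * a) → (a : G) * b = b * a := by
    intro a b ha hb he
    have h1 := hOS _ ((hfO _ _).1 he) (mul_mem (mul_mem ha hb) (inv_mem (mul_mem hb ha)))
    exact congrArg Subtype.val (mul_inv_eq_one.1 h1)
  have hci : CI (↥H ⧸ O) := (h.ci.subgroup H).map_odd f hf (by rw [hfd, QuotientGroup.ker_mk']; exact hOc)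
  have hcore : pPrimeCore 2 (↥H ⧸ O) = ⊥ := Cores.pPrimeCore_quotient_self 2
  have hncx : ¬ IsMulCommutative (Sx : Subgroup (↥H ⧸ O)) := fun hc => by
    refine h.noncomm ⟨⟨fun a b => Subtype.ext ?_⟩⟩
    refine hcommS ⟨a, hSH a.2⟩ ⟨b, hSH b.2⟩ a.2 b.2 ?_
    rw [map_mul, map_mul]
    exact congrArg Subtype.val (hc.is_comm.comm ⟨_, Subgroup.mem_map_of_mem f (x := ⟨a, hSH a.2⟩) a.2⟩
      ⟨_, Subgroup.mem_map_of_mem f (x := ⟨b, hSH b.2⟩) b.2⟩)
  have hdata : (Sx : Subgroup (↥H ⧸ O)).Normal ∨ ∃ LX, Data Sx LX := by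
    by_cases hn : (Sx : Subgroup (↥H ⧸ O)).Normal
    · exact Or.inl hn
    refine Or.inr (ih _ ?_ Sx ⟨hci, hcore, hncx, hn⟩)
    refine (Nat.le_of_dvd Nat.card_pos (Subgroup.card_quotient_dvd_card O)).trans_lt ?_
    exact lt_of_le_of_ne (Subgroup.card_le_card_group H) fun e =>
      hHne (Subgroup.eq_top_of_card_eq H e)
  set N := C'.map f with hNd
  haveI : N.Normal := hC'n.map f hf
  have hNmem : ∀ {x : ↥H}, f x ∈ N → x ∈ C' := by
    rintro x ⟨c, hc, he⟩
    have h1 : x * c⁻¹ ∈ C' := hOC ((hfO x c).1 he.symm)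
    simpa using mul_mem h1 hc
  have hcapI : ∀ {q : G} (hq : q ∈ (S : Subgroup G) ⊓ L),
      f ⟨q, hSH hq.1⟩ ∈ (Sx : Subgroup (↥H ⧸ O)) ⊓ N := fun {q} hq =>
    ⟨Subgroup.mem_map_of_mem f (x := ⟨q, hSH hq.1⟩) hq.1,
      Subgroup.mem_map_of_mem f (x := ⟨q, hSH hq.1⟩) (hSLC hq)⟩
  have hcapE : ∀ a ∈ (Sx : Subgroup (↥H ⧸ O)) ⊓ N,
      ∃ s : ↥H, (s : G) ∈ (S : Subgroup G) ⊓ L ∧ f s = a := by
    rintro _ ⟨⟨s, hs, rfl⟩, hN'⟩
    exact ⟨s, ⟨hs, hChatL (hNmem hN')⟩, rfl⟩
  obtain ⟨M, hMn, hSM, hzM, hDM⟩ := exists_envelope hci hcore Sx hncx hdata N (by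
    intro a ha b hb
    obtain ⟨s, hs, rfl⟩ := hcapE a ha
    obtain ⟨t, ht, rfl⟩ := hcapE b hb
    rw [← map_inv, ← map_inv, ← map_mul, ← map_mul, ← map_mul]
    set c := s * t * s⁻¹ * t⁻¹ with hcd
    refine Subgroup.mem_center_iff.2 fun x => ?_
    obtain ⟨g, rfl⟩ := hf x
    set cl : ↥L := ⟨(c : G), L.mul_mem (L.mul_mem (L.mul_mem hs.2 ht.2) (L.inv_mem hs.2)) (L.inv_mem ht.2)⟩
    have hcl : cl ∈ Subgroup.center ↥L := by
      have h0 := hPc ⟨_, hs.2⟩ (hQmem.2 hs.1) ⟨_, ht.2⟩ (hQmem.2 ht.1)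
      rw [toBar_eq_iff] at h0
      convert h0 using 1
      exact Subtype.ext (by simp [cl, c, mul_assoc])
    have hHc : H ≤ Subgroup.centralizer ({(c : G)} : Set G) := by
      refine sup_le (fun l hl => Subgroup.mem_centralizer_singleton_iff.2 ?_)
        fun s' hs' => Subgroup.mem_centralizer_singleton_iff.2 ?_
      · exact mem_center_iff'.1 hcl l (hChatL hl)
      · exact (meetCore_le_ctr (h.center_mem_meetCore hcl)).2 s' hs'
    rw [← map_mul, ← map_mul]
    exact congrArg f (Subtype.ext (Subgroup.mem_centralizer_singleton_iff.1 (hHc g.2))))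
    (by
    rintro _ ⟨s, hs, rfl⟩ _ ⟨t, ht, rfl⟩ has hbt
    have key : ∀ u : ↥H, (u : G) ∈ (S : Subgroup G) →
        (∀ q ∈ (Sx : Subgroup (↥H ⧸ O)) ⊓ N, f u * q = q * f u) →
        ∃ p ∈ (S : Subgroup G) ⊓ L, ∃ a ∈ pCore 2 G,
          (u : G) = p * a ∧ ∀ q ∈ (S : Subgroup G) ⊓ L, p * q = q * p := by
      intro u hu hau
      have hfix : ∀ q ∈ (Q : Subgroup ↥L), (u : G) * (q : G) = (q : G) * u := fun q hq =>
        hcommS u ⟨q, hSH (hQmem.1 hq)⟩ hu (hQmem.1 hq) (by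
          rw [map_mul, map_mul]; exact hau _ (hcapI ⟨hQmem.1 hq, q.2⟩))
      obtain ⟨p, hp, hpc⟩ := exists_mul_commute h.comp (h.toCtx.isPGroup_center h.comp) Q hPc
        (by rw [Subgroup.normalizer_eq_top]; exact Subgroup.mem_top _) (two_pow_of_mem_sylow hu) hfix
      have hpS := hQmem.1 hp
      have ha : (p : G)⁻¹ * u ∈ pCore 2 G := h.mem_pCore' (mul_mem (inv_mem hpS) hu) hpc
      refine ⟨p, ⟨hpS, p.2⟩, _, ha, (mul_inv_cancel_left _ _).symm, fun q hq => ?_⟩
      have h1 : Commute q (u : G) := (hfix ⟨q, hq.2⟩ (hQmem.2 hq.1)).symm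
      have h2 : Commute q ((p : G)⁻¹ * u) := (h.toCtx.pCore_le_ctr S ha).2 q hq.1
      have h3 := h1.mul_right h2.inv_right
      rw [mul_inv_rev, inv_inv, mul_inv_cancel_left] at h3
      exact h3.eq.symm
    obtain ⟨p, hp, a, ha, hsa, hpc⟩ := key s hs has
    obtain ⟨p', hp', a', ha', hta, -⟩ := key t ht hbt
    rw [← map_mul, ← map_mul]
    refine congrArg f (Subtype.ext ?_)
    show (s : G) * t = t * s
    rw [hsa, hta]
    have hz : ∀ c ∈ pCore 2 G, ∀ x ∈ (S : Subgroup G), Commute x c := fun c hc x hx =>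
      (h.toCtx.pCore_le_ctr S hc).2 x hx
    have h1 : Commute p (p' * a') := Commute.mul_right (hpc p' hp') (hz a' ha' p hp.1)
    have h2 : Commute a (p' * a') := Commute.mul_right (hz a ha p' hp'.1).symm
      (hz a ha a' (h.toCtx.pCore_le_ctr S ha').1).symm
    exact (h1.mul_left h2).eq)
  have hSM' : ∀ {s : ↥H}, (s : G) ∈ (S : Subgroup G) → f s ∈ M := fun {s} hs =>
    hSM (Subgroup.mem_map_of_mem f hs)
  -- the odd core of the centralizer
  have hcoreMem : ∀ {o : ↥H}, o ∈ O → ∀ lo : ↥L, (lo : G) = (o : G) →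
      toBar L lo ∈ centralizerPPrimeCore 2 jb := by
    intro o ho lo hlo
    set E0 := ((O.map H.subtype).subgroupOf L).map (toBar L) with hE0
    have hE0C : E0 ≤ Cb := by
      rintro _ ⟨l, hl, rfl⟩
      obtain ⟨o', ho', e⟩ := Subgroup.mem_subgroupOf.1 hl
      refine hmemC.1 ?_
      rw [← show (o' : G) = (l : G) from e]
      exact Subgroup.mem_subgroupOf.1 (hOC ho')
    haveI : (E0.subgroupOf Cb).Normal := Subgroup.normal_subgroupOf_of_le_normalizer fun x hx => by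
      refine Coprime.mem_normalizer_of_forall ?_
      obtain ⟨m, rfl⟩ := toBar_surjective L x
      rintro _ ⟨l, hl, rfl⟩
      obtain ⟨o', ho', e⟩ := Subgroup.mem_subgroupOf.1 hl
      refine ⟨m * l * m⁻¹, Subgroup.mem_subgroupOf.2 ⟨⟨m, hCH (hmemC.2 hx)⟩ * o' *
        (⟨m, hCH (hmemC.2 hx)⟩ : ↥H)⁻¹, (Cores.pPrimeCore_normal 2 ↥H).conj_mem o' ho' _, ?_⟩, by
          simp [map_mul]⟩
      show (m : G) * (o' : G) * (m : G)⁻¹ = (m : G) * (l : G) * (m : G)⁻¹
      rw [show (o' : G) = (l : G) from e]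
    have hcard : (Nat.card (E0.subgroupOf Cb)).Coprime 2 := by
      rw [Cores.card_subgroupOf hE0C]
      refine hOc.coprime_dvd_left ((Subgroup.card_map_dvd _ _).trans ?_)
      refine (Subgroup.card_comap_dvd_of_injective _ L.subtype L.subtype_injective).trans ?_
      rw [Subgroup.card_map_of_injective H.subtype_injective]
    have hmem : toBar L lo ∈ E0 := ⟨lo, Subgroup.mem_subgroupOf.2 ⟨o, ho, hlo.symm⟩, rfl⟩
    exact ⟨⟨_, hE0C hmem⟩, Cores.le_pPrimeCore inferInstance hcard hmem, rfl⟩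
  refine ⟨fun x hx => ?_, fun D hDC hD hPD => ?_⟩
  · obtain ⟨l, rfl⟩ := toBar_surjective L x
    have hlC : (l : G) ∈ Chat := hmemC.2 hx
    set K1 := (M ⊓ N).comap f with hK1d
    have hK1C : K1 ≤ C' := fun k hk => hNmem hk.2
    obtain ⟨R, hR⟩ := exists_sylow_inf K1 Sh
    have hsup := Sylow.normalizer_sup_eq_top R
    rw [hR, Subgroup.subgroupOf_map_subtype] at hsup
    obtain ⟨n, hn, k, hk, hnk⟩ := Subgroup.mem_sup_of_normal_right.1
      (hsup ▸ Subgroup.mem_top (⟨(l : G), hCH hlC⟩ : ↥H))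
    have hnC : n ∈ C' := by
      have h1 : (⟨(l : G), hCH hlC⟩ : ↥H) * k⁻¹ ∈ C' := mul_mem hlC (inv_mem (hK1C hk))
      rwa [← hnk, mul_inv_cancel_right] at h1
    have hnN : (n : G) ∈ Subgroup.normalizer (((S : Subgroup G) ⊓ L : Subgroup G) : Set G) := by
      refine Coprime.mem_normalizer_of_forall fun q hq => ?_
      have hqm : (⟨q, hSH hq.1⟩ : ↥H) ∈ (Sh : Subgroup ↥H) ⊓ K1 :=
        ⟨hq.1, hSM' (s := ⟨q, hSH hq.1⟩) hq.1, (hcapI hq).2⟩
      have h1 := (Subgroup.mem_normalizer_iff.1 hn _).1 hqm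
      exact ⟨h1.1, hChatL (hK1C h1.2)⟩
    set J' := (meetCore S L).subgroupOf H with hJ'd
    have hJ'p : IsPGroup 2 J' :=
      (S.isPGroup'.to_le (fun j hj => (meetCore_le hj).1)).comap_subtype
    have hkJ : MulAut.conj k • J' ≤ O ⊔ J' := by
      intro i hi
      rw [Coprime.mem_conj] at hi
      set i0 := k⁻¹ * i * k with hi0
      have hi0z : f i0 ∈ ctr (Sx : Subgroup (↥H ⧸ O)) := by
        have h0 : (i0 : G) ∈ ctr (S : Subgroup G) := meetCore_le_ctr hi
        refine ⟨Subgroup.mem_map_of_mem f h0.1, ?_⟩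
        rintro _ ⟨s, hs, rfl⟩
        rw [← map_mul, ← map_mul]
        exact congrArg f (Subtype.ext (h0.2 _ hs))
      have h1 := hzM _ hi0z (f k) hk.1
      rw [← map_mul, ← map_mul, eq_comm, hfO] at h1
      have h2 : i * i0⁻¹ ∈ O := by
        have e : k * i0 * (i0 * k)⁻¹ = i * i0⁻¹ := by rw [hi0]; group
        rwa [e] at h1
      have h3 := Subgroup.mul_mem_sup h2 hi
      rwa [inv_mul_cancel_right] at h3
    have hJN : J' ≤ Subgroup.normalizer (O : Set ↥H) := by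
      rw [Subgroup.normalizer_eq_top]; exact le_top
    obtain ⟨o, ho, hoJ⟩ := Coprime.exists_conj_eq_of_le_sup hJN
      (by obtain ⟨m, hm⟩ := IsPGroup.iff_card.1 hJ'p; rw [hm]; exact hOc.symm.pow_left m)
      (Or.inl (by haveI := hJ'p.isNilpotent; infer_instance)) hkJ (Coprime.card_conj k J')
    have hw0 : o⁻¹ * k ∈ Subgroup.normalizer (J' : Set ↥H) := Coprime.mem_normalizer_of_conj_eq (by
      rw [map_mul, mul_smul, ← hoJ, ← mul_smul, ← map_mul, inv_mul_cancel, map_one, one_smul])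
    have hoC : o ∈ C' := hOC ho
    have ho'L : ((n * o * n⁻¹ : ↥H) : G) ∈ L :=
      hChatL (Subgroup.mem_subgroupOf.1 (mul_mem (mul_mem hnC hoC) (inv_mem hnC)))
    have hwL : ((n * (o⁻¹ * k) : ↥H) : G) ∈ L :=
      hChatL (Subgroup.mem_subgroupOf.1 (mul_mem hnC (mul_mem (inv_mem hoC) (hK1C hk))))
    have hl : l = (⟨_, ho'L⟩ : ↥L) * ⟨_, hwL⟩ := Subtype.ext (by
      have e := congrArg Subtype.val hnk
      rw [Subgroup.coe_mul] at e
      simp only [Subgroup.coe_mul, Subgroup.coe_inv]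
      rw [← e]; group)
    rw [hl, map_mul]
    refine Subgroup.mul_mem_sup (hcoreMem
      ((Cores.pPrimeCore_normal 2 ↥H).conj_mem o ho n) _ rfl) ?_
    refine Coprime.mem_normalizer_of_forall ?_
    rintro _ ⟨j, hj, rfl⟩
    refine ⟨⟨_, hwL⟩ * j * (⟨_, hwL⟩ : ↥L)⁻¹, Subgroup.mem_subgroupOf.2 ?_, by simp [map_mul]⟩
    have hjH : (j : G) ∈ H := hSH (meetCore_le hj).1
    have h1 := (Subgroup.mem_normalizer_iff.1 hw0 ⟨j, hjH⟩).1 hj
    have h2 := conj_mem_meetCore hnN h1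
    simpa [mul_assoc] using h2
  · set E := D.comap (toBar L) with hEd
    set D1 := (pPrimeCore 2 ↥E).map E.subtype with hD1d
    have hD1E : D1 ≤ E := Subgroup.map_subtype_le _
    have hQE : (Q : Subgroup ↥L) ≤ Subgroup.normalizer (E : Set ↥L) := fun q hq =>
      Coprime.mem_normalizer_of_forall fun e he => by
        show toBar L (q * e * q⁻¹) ∈ D
        rw [map_mul, map_mul, map_inv]
        exact (Subgroup.mem_normalizer_iff.1 (hPD (Subgroup.mem_map_of_mem _ hq)) _).1 he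
    have hQD1 := hQE.trans (Cores.normalizer_le_normalizer_map (pPrimeCore 2 ↥E))
    have hD1C : D1.map L.subtype ≤ Chat := Subgroup.map_mono (hD1E.trans (Subgroup.comap_mono hDC))
    set DH := (D1.map L.subtype).subgroupOf H with hDHd
    have hDH : DH ≤ C' := fun x hx => hD1C hx
    have hDHc : (Nat.card DH).Coprime 2 := by
      rw [Cores.card_subgroupOf (hD1C.trans hCH), Subgroup.card_map_of_injective L.subtype_injective,
        Subgroup.card_map_of_injective E.subtype_injective]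
      exact Cores.coprime_card_pPrimeCore 2
    have hDxc := hDHc.coprime_dvd_left (Subgroup.card_map_dvd DH f)
    have hcent := hDM (DH.map f) (Subgroup.map_mono hDH) hDxc (fun a ha => by
      obtain ⟨s, hs, rfl⟩ := hcapE a ha
      refine Coprime.mem_normalizer_of_forall ?_
      rintro _ ⟨d, hd, rfl⟩
      refine ⟨s * d * s⁻¹, ?_, by simp [map_mul]⟩
      obtain ⟨d1, hd1, e⟩ := hd
      refine ⟨⟨s, hs.2⟩ * d1 * (⟨s, hs.2⟩ : ↥L)⁻¹,
        (Subgroup.mem_normalizer_iff.1 (hQD1 (hQmem.2 hs.1)) d1).1 hd1, ?_⟩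
      show (s : G) * (d1 : G) * (s : G)⁻¹ = (s : G) * (d : G) * (s : G)⁻¹
      rw [show (d1 : G) = (d : G) from e])
    obtain ⟨R', hR'⟩ := exists_sylow_inf N Sx
    have hDO : DH ≤ O := by
      have h1 := le_core_of_centralizes ((M ⊓ N).subgroupOf N) R' (by
          rw [hR']; exact fun x hx => ⟨hSM hx, x.2⟩)
        (D := (DH.map f).subgroupOf N) (by rwa [Cores.card_subgroupOf (Subgroup.map_mono hDH)])
        (fun x hx y hy => Subtype.ext (hcent hx y hy))
      have h2 : (pPrimeCore 2 ↥N).map N.subtype = ⊥ := by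
        rw [Cores.pPrimeCore_map_subtype, hcore, bot_inf_eq]
      intro x hx
      have hxN : f x ∈ N := Subgroup.mem_map_of_mem f (hDH hx)
      have h3 := Subgroup.mem_map_of_mem N.subtype (h1 (show (⟨f x, hxN⟩ : ↥N) ∈ (DH.map f).subgroupOf N
        from Subgroup.mem_map_of_mem f hx))
      rw [h2, Subgroup.mem_bot] at h3
      exact (QuotientGroup.eq_one_iff x).1 h3
    intro d hd
    obtain ⟨e, rfl⟩ := toBar_surjective L d
    have hmd : ∀ w ∈ E, toBar L (w ^ Nat.card D) = 1 := fun w hw => by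
      rw [map_pow]; exact pow_card_of_mem hw
    obtain ⟨k, hk⟩ := IsPGroup.iff_card.1 (h.toCtx.isPGroup_center h.comp)
    obtain ⟨RE⟩ : Nonempty (Sylow 2 ↥E) := inferInstance
    have hRE : ∀ r ∈ (RE : Subgroup ↥E), ∀ g : ↥E, g * r = r * g := by
      intro r hr g
      have hr1 : toBar L (r : ↥L) = 1 := eq_one_of_odd_of_two hD (pow_card_of_mem r.2) (by
        obtain ⟨j, hj⟩ := two_pow_of_mem_sylow hr
        obtain ⟨i, -, hi⟩ := (Nat.dvd_prime_pow Nat.prime_two).1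
          (((orderOf_map_dvd (toBar L) (r : ↥L))).trans (by rw [Subgroup.orderOf_coe, hj] : _ ∣ 2 ^ j))
        exact ⟨i, hi⟩)
      have hz : (r : ↥L) ∈ Subgroup.center ↥L := by rw [← ker_toBar]; exact hr1
      exact Subtype.ext (Subgroup.mem_center_iff.1 hz _)
    have hxcore : (⟨e, hd⟩ : ↥E) ^ 2 ^ k ∈ pPrimeCore 2 ↥E := by
      refine mem_core_of_central RE hRE hD (Subtype.ext ?_)
      rw [SubmonoidClass.coe_pow, SubmonoidClass.coe_pow, OneMemClass.coe_one, ← pow_mul, mul_comm,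
        pow_mul]
      have hz : e ^ Nat.card D ∈ Subgroup.center ↥L := (ker_toBar L).le (MonoidHom.mem_ker.2 (hmd e hd))
      exact hk ▸ pow_card_of_mem hz
    have hxD1 : e ^ 2 ^ k ∈ D1 := ⟨_, hxcore, rfl⟩
    have hxG : ((e ^ 2 ^ k : ↥L) : G) ∈ D1.map L.subtype := Subgroup.mem_map_of_mem _ hxD1
    have hcm : toBar L (e ^ 2 ^ k) ∈ centralizerPPrimeCore 2 jb :=
      hcoreMem (hDO (show (⟨_, hCH (hD1C hxG)⟩ : ↥H) ∈ DH from hxG)) _ rfl
    rw [map_pow] at hcm
    exact Coprime.mem_of_pow_mem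
      ((hD.coprime_dvd_left (orderOf_dvd_of_pow_eq_one (pow_card_of_mem hd))).pow_right k) hcm

end Cfsg.Agent.CISylow
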