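import Cfsg.Agent.Lib.CISylow.Abelian
import Cfsg.Agent.Lib.CISylow.Step

/-!
# Core-free groups with central Sylow 2-intersections (helper21)

Modulo Goldschmidt's theorem `Gold`: a core-free CI-group with nonabelian nonnormal Sylow 2-subgroup
`S` has a normal component `L` with `S = (S ∩ L) O_2` and a strongly embedded subgroup in `L / Z(L)`.
-/

set_option autoImplicit false

namespace Cfsg.Agent.CISylow

open Cfsg
open scoped Pointwise

universe u

/-- Goldschmidt's theorem on strongly closed abelian 2-subgroups, for simple groups. -/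
def Gold : Prop :=
  ∀ (X : Type u) [Group X] [Finite X] [IsSimpleGroup X] (S : Sylow 2 X) (A : Subgroup X), A ≠ ⊥ →
    IsMulCommutative A → IsStronglyClosed A (S : Subgroup X) →
      IsMulCommutative (S : Subgroup X) ∨ ∃ H : Subgroup X, IsStronglyEmbedded H

variable {G : Type u} [Group G] [Finite G] {S : Sylow 2 G} {L : Subgroup G}

theorem ctr_ne_bot {X : Type u} [Group X] [Finite X] (P : Sylow 2 X)
    (hP : (P : Subgroup X) ≠ ⊥) : ctr (P : Subgroup X) ≠ ⊥ := by
  haveI : Fact (Nat.Prime 2) := ⟨Nat.prime_two⟩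
  haveI : Nontrivial ↥(P : Subgroup X) := (Subgroup.nontrivial_iff_ne_bot _).2 hP
  haveI := P.isPGroup'.center_nontrivial
  obtain ⟨⟨z, hz⟩, hz1⟩ := exists_ne (1 : ↥(Subgroup.center ↥(P : Subgroup X)))
  intro h
  have hmem : (z : X) ∈ ctr (P : Subgroup X) :=
    ⟨z.2, fun s hs => congrArg Subtype.val (Subgroup.mem_center_iff.1 hz ⟨s, hs⟩)⟩
  rw [h, Subgroup.mem_bot] at hmem
  exact hz1 (Subtype.ext (Subtype.ext hmem))

theorem CompCtx.exists_se (hGold : Gold.{u}) (h : CompCtx S L) (ih : IH G) :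
    ∃ H : Subgroup (Bar L), IsStronglyEmbedded H := by
  haveI : Fact (Nat.Prime 2) := ⟨Nat.prime_two⟩
  haveI := h.normal
  have hX := barFacts h.comp
  haveI := hX.simple
  have hZ := h.toCtx.isPGroup_center h.comp
  obtain ⟨Q, hQ⟩ := exists_sylow_component h.comp S
  set P := Q.mapSurjective (toBar_surjective L) with hPd
  have hPne : (P : Subgroup (Bar L)) ≠ ⊥ := fun e => hX.notNormal P (e ▸ inferInstance)
  by_cases hcomm : IsMulCommutative (P : Subgroup (Bar L))
  swap
  · have hci : CI (Bar L) := (h.ci.subgroup L).map_two (toBar L) (toBar_surjective L)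
      ((ker_toBar L).symm ▸ hZ)
    refine (hGold (Bar L) P _ (ctr_ne_bot P hPne) ?_ (hci.stronglyClosed_ctr P)).resolve_left hcomm
    exact ⟨⟨fun a b => Subtype.ext (b.2.2 a a.2.1)⟩⟩
  have hPc : ∀ a ∈ (Q : Subgroup ↥L), ∀ b ∈ (Q : Subgroup ↥L), toBar L (a * b) = toBar L (b * a) :=
    fun a ha b hb => by
      rw [map_mul, map_mul]
      exact congrArg Subtype.val (hcomm.is_comm.comm
        ⟨toBar L a, Subgroup.mem_map_of_mem _ ha⟩ ⟨toBar L b, Subgroup.mem_map_of_mem _ hb⟩)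
  set W := ((meetCore S L).subgroupOf L).map (toBar L) with hWd
  have hWmem : ∀ {x : ↥L}, toBar L x ∈ W → (x : G) ∈ meetCore S L := by
    rintro x ⟨j, hj, he⟩
    have hz : x * j⁻¹ ∈ Subgroup.center ↥L := toBar_eq_iff.1 he.symm
    have := mul_mem (h.center_mem_meetCore hz) hj
    simpa using this
  refine exists_stronglyEmbedded_of_abelian P hcomm (hX.notNormal P) W ?_ ?_ ?_ ?_ ?_ ?_
  · refine Subgroup.map_mono fun x hx => ?_
    rw [hQ]
    exact (meetCore_le hx).1
  · intro he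
    refine h.noncentral fun x hx => meetCore_le_ctr (hWmem (x := ⟨x, hx.2⟩) (he.ge ?_))
    exact Subgroup.mem_map_of_mem _ (by rw [hQ]; exact hx.1)
  · intro T hT x hx
    obtain ⟨T', rfl⟩ := Sylow.mapSurjective_surjective (toBar_surjective L) 2 T
    obtain ⟨T'', hT''⟩ := Sylow.exists_comap_subtype_eq T'
    obtain ⟨q, hq, rfl⟩ := hx.1
    have hqT : q ∈ (T' : Subgroup ↥L) := (mem_iff_toBar_mem hZ T').1 hx.2
    have hqQ : (q : G) ∈ (S : Subgroup G) ⊓ L := by
      refine ⟨?_, q.2⟩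
      have hq' : q ∈ (Q : Subgroup ↥L) := hq
      rw [hQ] at hq'
      exact hq'
    refine Subgroup.mem_map_of_mem _ (Subgroup.mem_subgroupOf.2 ⟨hqQ, fun T1 hT1 => ?_⟩)
    refine h.ci.mem_ctr (T := T'') (fun e => hT ?_) (hT1 hqQ) (by rw [← hT''] at hqT; exact hqT)
    subst e
    have hle : (Q : Subgroup ↥L) ≤ T' := by
      rw [hQ, ← hT'']
      exact fun z hz => hT1 ⟨hz, z.2⟩
    exact congrArg (Sylow.mapSurjective (toBar_surjective L))
      (Sylow.ext (Q.is_maximal' T'.isPGroup' hle))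
  · intro g hg
    obtain ⟨l, rfl⟩ := toBar_surjective L g
    have hl : (l : G) ∈ Subgroup.normalizer (((S : Subgroup G) ⊓ L : Subgroup G) : Set G) := by
      refine Coprime.mem_normalizer_of_forall fun x hx => ?_
      have h1 : toBar L (l * ⟨x, hx.2⟩ * l⁻¹) ∈ (P : Subgroup (Bar L)) := by
        rw [map_mul, map_mul, map_inv]
        exact (Subgroup.mem_normalizer_iff.1 hg _).1
          (Subgroup.mem_map_of_mem _ (by rw [hQ]; exact hx.1))
      have h2 := (mem_iff_toBar_mem hZ Q).1 h1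
      rw [hQ] at h2
      exact ⟨h2, (l * ⟨x, hx.2⟩ * l⁻¹).2⟩
    refine Coprime.mem_normalizer_of_forall ?_
    rintro _ ⟨j, hj, rfl⟩
    exact ⟨l * j * l⁻¹, conj_mem_meetCore hl hj, by simp [map_mul]⟩
  · intro y hy hy2
    obtain ⟨j, hj, rfl⟩ := hy
    exact (local_facts h ih Q hQ hPc hj (fun e => by rw [e, orderOf_one] at hy2; omega)).1
  · intro y hy hy2
    obtain ⟨j, hj, rfl⟩ := hy
    exact (local_facts h ih Q hQ hPc hj (fun e => by rw [e, orderOf_one] at hy2; omega)).2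

theorem CompCtx.split_of_se (h : CompCtx S L) (hse : ∃ H : Subgroup (Bar L), IsStronglyEmbedded H) :
    (S : Subgroup G) ≤ ((S : Subgroup G) ⊓ L) ⊔ pCore 2 G := by
  haveI : Fact (Nat.Prime 2) := ⟨Nat.prime_two⟩
  haveI := h.normal
  have hX := barFacts h.comp
  haveI := hX.simple
  have hZ := h.toCtx.isPGroup_center h.comp
  obtain ⟨Q, hQ⟩ := exists_sylow_component h.comp S
  set P := Q.mapSurjective (toBar_surjective L) with hPd
  obtain ⟨H, hH⟩ := hse
  have hreg := (regular_families_of_se hH).1 P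
  obtain ⟨T, hT⟩ : ∃ T : Sylow 2 (Bar L), T ≠ P := by
    by_contra hc
    push Not at hc
    refine hX.notNormal P (Subgroup.normalizer_eq_top_iff.1 (eq_top_iff.2 fun g _ => ?_))
    rw [mem_normalizer_iff_smul, hc (g • P)]
  obtain ⟨T0, rfl⟩ := Sylow.mapSurjective_surjective (toBar_surjective L) 2 T
  intro s hs
  have hsN : ∀ x : G, x ∈ Subgroup.normalizer (L : Set G) := fun x => by
    rw [Subgroup.normalizer_eq_top]; exact Subgroup.mem_top x
  set α := barAut L ⟨s, hsN s⟩ with hα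
  have hQS : ∀ {x : ↥L}, x ∈ (Q : Subgroup ↥L) ↔ (x : G) ∈ (S : Subgroup G) := fun {x} => by
    rw [hQ]; exact Subgroup.mem_subgroupOf
  have hαP : α • P = P := by
    refine (Sylow.ext (P.is_maximal' (α • P).isPGroup' ?_).symm).symm
    rintro _ ⟨x, hx, rfl⟩
    obtain ⟨s', hs'⟩ : ∃ s', s' = s⁻¹ * (x : G) * s := ⟨_, rfl⟩
    have hsL : s' ∈ L := hs' ▸ (Subgroup.mem_normalizer_iff''.1 (hsN s) _).1 x.2
    refine ⟨toBar L ⟨s', hsL⟩, Subgroup.mem_map_of_mem _ (hQS.2 ?_), ?_⟩
    · show s' ∈ (S : Subgroup G)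
      exact hs' ▸ mul_mem (mul_mem (inv_mem hs) (hQS.1 hx)) hs
    · show α (toBar L ⟨s', hsL⟩) = toBar L x
      rw [hα, barAut_apply]
      exact congrArg (toBar L) (Subtype.ext (by
        show s * s' * s⁻¹ = x
        rw [hs']; group))
  have hT' : α • T0.mapSurjective (toBar_surjective L) ≠ P := fun e =>
    hT (smul_left_cancel α (e.trans hαP.symm))
  obtain ⟨p, hp, hpe⟩ := hreg.1 _ _ hT hT'
  obtain ⟨q, hq, rfl⟩ := hp
  set u := (q : G)⁻¹ * s with hu
  have huS : u ∈ (S : Subgroup G) := mul_mem (inv_mem (hQS.1 hq)) hs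
  have hfixT : ∀ t ∈ (T0 : Subgroup ↥L),
      (⟨u * t * u⁻¹, (Subgroup.mem_normalizer_iff.1 (hsN u) _).1 t.2⟩ : ↥L) ∈ (T0 : Subgroup ↥L) := by
    intro t ht
    refine (mem_iff_toBar_mem hZ T0).1 ?_
    have h1 : α (toBar L t) ∈
        ((α • T0.mapSurjective (toBar_surjective L) : Sylow 2 (Bar L)) : Subgroup (Bar L)) :=
      ⟨toBar L t, Subgroup.mem_map_of_mem _ ht, rfl⟩
    rw [← hpe, mem_smul_iff] at h1
    have e : toBar L ⟨u * t * u⁻¹, (Subgroup.mem_normalizer_iff.1 (hsN u) _).1 t.2⟩ =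
        (toBar L q)⁻¹ * α (toBar L t) * toBar L q := by
      rw [hα, barAut_apply, ← map_inv, ← map_mul, ← map_mul]
      exact congrArg (toBar L) (Subtype.ext (by simp [hu, mul_assoc]))
    rw [e]
    exact h1
  set TG := (T0 : Subgroup ↥L).map L.subtype with hTG
  have huTG : Subgroup.zpowers u ≤ Subgroup.normalizer (TG : Set G) :=
    Subgroup.zpowers_le.2 (Coprime.mem_normalizer_of_forall (by
      rintro _ ⟨t, ht, rfl⟩
      exact ⟨_, hfixT t ht, rfl⟩))
  obtain ⟨T1, hT1⟩ := ((T0.isPGroup'.map L.subtype).to_sup_of_normal_left'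
    (by obtain ⟨n, hn⟩ := two_pow_of_mem_sylow huS
        exact IsPGroup.of_card (n := n) (by rw [Nat.card_zpowers, hn])) huTG).exists_le_sylow
  have hne : S ≠ T1 := by
    intro e
    subst e
    refine hT ?_
    have hle : (T0 : Subgroup ↥L) ≤ Q := fun t ht =>
      hQS.2 (hT1 (Subgroup.mem_sup_left ⟨t, ht, rfl⟩))
    exact congrArg (Sylow.mapSurjective (toBar_surjective L))
      (Sylow.ext (T0.is_maximal' Q.isPGroup' hle).symm)
  have huT : u ∈ (T1 : Subgroup G) := hT1 (Subgroup.mem_sup_right (Subgroup.mem_zpowers u))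
  have huz := (h.ci.mem_ctr hne huS huT).2
  have huz' := (h.ci.mem_ctr hne.symm huT huS).2
  set C := (Subgroup.centralizer ({u} : Set G)).subgroupOf L with hC
  have hQC : (Q : Subgroup ↥L) ≤ C := fun x hx =>
    Subgroup.mem_centralizer_singleton_iff.2 (huz _ (hQS.1 hx))
  have hTC : (T0 : Subgroup ↥L) ≤ C := fun x hx =>
    Subgroup.mem_centralizer_singleton_iff.2 (huz' _ (hT1 (Subgroup.mem_sup_left ⟨x, hx, rfl⟩)))
  have hall : ∀ T' : Sylow 2 (Bar L), (T' : Subgroup (Bar L)) ≤ C.map (toBar L) := by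
    intro T'
    by_cases hT'' : T' = P
    · exact hT'' ▸ Subgroup.map_mono hQC
    obtain ⟨p, hp, rfl⟩ := hreg.1 _ T' hT hT''
    intro x hx
    rw [mem_smul_iff] at hx
    have hp' : p ∈ C.map (toBar L) := Subgroup.map_mono hQC hp
    have := mul_mem (mul_mem hp' (Subgroup.map_mono hTC hx)) (inv_mem hp')
    simpa [mul_assoc] using this
  have htop : C.map (toBar L) = ⊤ := by
    have hncl : Subgroup.normalClosure ((P : Subgroup (Bar L)) : Set (Bar L)) ≤ C.map (toBar L) := by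
      refine (Subgroup.closure_le _).2 fun x hx => ?_
      obtain ⟨a, ha, hax⟩ := Group.mem_conjugatesOfSet_iff.1 hx
      obtain ⟨g, rfl⟩ := isConj_iff.1 hax
      exact hall (g • P) (conj_mem_smul ha)
    rcases (Subgroup.normalClosure_normal (s := ((P : Subgroup (Bar L)) : Set (Bar L)))).eq_bot_or_eq_top
      with e | e
    · have hPb : (P : Subgroup (Bar L)) = ⊥ :=
        le_bot_iff.1 fun x hx => e ▸ Subgroup.subset_normalClosure hx
      exact absurd (hPb ▸ inferInstance : (P : Subgroup (Bar L)).Normal) (hX.notNormal P)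
    · exact top_le_iff.1 (e ▸ hncl)
  have huL : ∀ l ∈ L, u * l = l * u := by
    intro l hl
    obtain ⟨c, hc, he⟩ := htop.ge (Subgroup.mem_top (toBar L ⟨l, hl⟩))
    have h1 : (⟨l, hl⟩ : ↥L) * c⁻¹ ∈ C := hQC (le_sylow_of_normal hZ Q (toBar_eq_iff.1 he.symm))
    have h2 := mul_mem h1 hc
    rw [inv_mul_cancel_right] at h2
    exact (Subgroup.mem_centralizer_singleton_iff.1 h2).symm
  have hmem := Subgroup.mul_mem_sup (show (q : G) ∈ (S : Subgroup G) ⊓ L from ⟨hQS.1 hq, q.2⟩)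
    (h.mem_pCore' huS huL)
  rwa [hu, mul_inv_cancel_left] at hmem

theorem exists_data (hGold : Gold.{u}) : ∀ (n : ℕ) (X : Type u) [Group X] [Finite X],
    Nat.card X = n → ∀ S : Sylow 2 X, Ctx S → ∃ L, Data S L := by
  intro n
  induction n using Nat.strong_induction_on with
  | _ n ih =>
    intro X _ _ hn S h
    obtain ⟨L, hL⟩ := h.exists_compCtx
    have hih : IH X := fun Y _ _ hY S' hS' => ih _ (hn ▸ hY) Y rfl S' hS'
    have hse := hL.exists_se hGold hih
    exact ⟨L, hL, hL.split_of_se hse, hse⟩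

end Cfsg.Agent.CISylow
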